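import Cfsg.Agent.Lib.ThreeTransp.M22Sylow.Local

/-!
# General facts about subgroups of prime order
-/

set_option autoImplicit false

namespace CfsgLib.M22Sylow.Loc

open Subgroup

variable {G : Type*} [Group G] [Finite G]

/-- A subgroup acting freely by conjugation on a set has order dividing the size of the set. -/
theorem card_dvd_of_free_conj (K : Subgroup G) (T : Set G) (hinv : ∀ g ∈ K, ∀ x ∈ T, g * x * g⁻¹ ∈ T)
    (hfree : ∀ g ∈ K, ∀ x ∈ T, Commute g x → g = 1) : Nat.card K ∣ T.ncard := by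
  letI : MulAction K ↥T :=
    { smul := fun g x => ⟨(g : G) * x.1 * (g : G)⁻¹, hinv g.1 g.2 x.1 x.2⟩
      one_smul := fun x => Subtype.ext (show (1 : G) * x.1 * (1 : G)⁻¹ = x.1 by group)
      mul_smul := fun g g' x => Subtype.ext (show ((g : G) * g') * x.1 * ((g : G) * g')⁻¹ =
        (g : G) * ((g' : G) * x.1 * (g' : G)⁻¹) * (g : G)⁻¹ by group) }
  have hst : ∀ x : ↥T, MulAction.stabilizer K x = ⊥ := fun x => (Subgroup.eq_bot_iff_forall _).2 fun g hg =>
    Subtype.ext (hfree g.1 g.2 x.1 x.2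
      (mul_inv_eq_iff_eq_mul.1 (congrArg Subtype.val (MulAction.mem_stabilizer_iff.1 hg))))
  refine ⟨Nat.card (Quotient (MulAction.orbitRel K ↥T)), ?_⟩
  rw [mul_comm, ← Nat.card_coe_set_eq, Nat.card_congr (MulAction.selfEquivOrbitsQuotientProd hst), Nat.card_prod]

/-- An element of a group with a normal subgroup of index `p`, of order prime to `p`, lies in that subgroup. -/
theorem mem_of_pow_eq {R K : Subgroup G} {p n : ℕ} (hKR : K ≤ R) (hc : Nat.card R = p * Nat.card K)
    (hnorm : ∀ g ∈ R, ∀ k ∈ K, g * k * g⁻¹ ∈ K) (hcop : Nat.Coprime p n) {x : G} (hx : x ∈ R)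
    (hxn : x ^ n = 1) : x ∈ K := by
  haveI : (K.subgroupOf R).Normal := ⟨fun k hk g => hnorm g.1 g.2 k.1 hk⟩
  have hidx : (K.subgroupOf R).index = p := by
    have h := index_mul_card (K.subgroupOf R)
    rw [Nat.card_congr (subgroupOfEquivOfLe hKR).toEquiv, hc] at h
    exact Nat.eq_of_mul_eq_mul_right Nat.card_pos h
  have h1 : x ^ p ∈ K := by
    have := (K.subgroupOf R).pow_index_mem ⟨x, hx⟩
    rw [hidx, mem_subgroupOf] at this
    exact this
  obtain ⟨u, v, huv⟩ := (Int.isCoprime_iff_nat_coprime.2 (by simpa using hcop) : IsCoprime (p : ℤ) (n : ℤ))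
  have hx' : x = (x ^ p) ^ u * (x ^ n) ^ v := by
    rw [← zpow_natCast x p, ← zpow_natCast x n, ← zpow_mul, ← zpow_mul, ← zpow_add,
      show (p : ℤ) * u + (n : ℤ) * v = 1 by linear_combination huv, zpow_one]
  rw [hx', hxn, one_zpow, mul_one]
  exact zpow_mem h1 u

variable {p : ℕ}

/-- Each Sylow subgroup of prime order contributes `p - 1` elements of order `p`. -/
theorem sylow_elements (hp : p.Prime) {M X : Subgroup G} (hX : X ≤ M) (hc : Nat.card X = p)
    (h2 : ¬ p ^ 2 ∣ Nat.card M) :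
    ∃ m, Nat.card M = m * Nat.card ↥(M ⊓ normalizer (X : Set G)) ∧ m ≡ 1 [MOD p] ∧
      m * (p - 1) ≤ {e | e ∈ M ∧ e ^ p = 1 ∧ e ≠ 1}.ncard := by
  haveI := Fact.mk hp
  obtain ⟨P, hP⟩ := exists_sylow hp hX hc h2
  have hPc : ∀ Q : Sylow p M, Nat.card (Q : Subgroup M) = p := fun Q => by
    rw [Nat.card_congr (Sylow.equiv Q P).toEquiv, hP, Nat.card_congr (subgroupOfEquivOfLe hX).toEquiv, hc]
  refine ⟨Nat.card (Sylow p M), ?_, card_sylow_modEq_one p M, ?_⟩
  · rw [P.card_eq_index_normalizer]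
    have hN : normalizer (P : Set M) = (M ⊓ normalizer (X : Set G)).subgroupOf M := by
      ext g
      rw [show (P : Set M) = ((P : Subgroup M) : Set M) from rfl, hP]
      simp only [mem_normalizer_iff, mem_subgroupOf, mem_inf, Subgroup.coe_mul, Subgroup.coe_inv]
      constructor
      · intro h
        refine ⟨g.2, fun x => ⟨fun hx => (h ⟨x, hX hx⟩).1 hx, fun hx => ?_⟩⟩
        have hxM : x ∈ M := by
          have := mul_mem (mul_mem (inv_mem g.2) (hX hx)) g.2
          simpa [mul_assoc] using this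
        exact (h ⟨x, hxM⟩).2 hx
      · rintro ⟨-, h⟩ x
        exact h x
    rw [hN, ← Nat.card_congr (subgroupOfEquivOfLe (inf_le_left : M ⊓ normalizer (X : Set G) ≤ M)).toEquiv,
      index_mul_card]
  have hgen : ∀ Q : Sylow p M, ∃ u : M, (Q : Subgroup M) = zpowers u ∧ u ^ p = 1 ∧ u ≠ 1 := fun Q =>
    exists_gen hp (hPc Q)
  choose u hu hup hu1 using hgen
  have hord : ∀ Q, orderOf (u Q) = p := fun Q => orderOf_eq_prime (hup Q) (hu1 Q)
  have hne : ∀ Q, ∀ i : Fin (p - 1), u Q ^ (i.1 + 1) ≠ 1 := fun Q i h => by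
    have h' := Nat.le_of_dvd (Nat.succ_pos _) (hord Q ▸ orderOf_dvd_of_pow_eq_one h)
    have := i.2
    omega
  let f : Sylow p M × Fin (p - 1) → ↥({e | e ∈ M ∧ e ^ p = 1 ∧ e ≠ 1} : Set G) := fun q =>
    ⟨((u q.1 ^ (q.2.1 + 1) : M) : G), SetLike.coe_mem _, by
      rw [← SubmonoidClass.coe_pow, ← pow_mul, mul_comm, pow_mul, hup, one_pow, OneMemClass.coe_one],
      fun h => hne q.1 q.2 (Subtype.ext h)⟩
  have hf : Function.Injective f := by
    rintro ⟨Q, i⟩ ⟨Q', j⟩ h
    have h' : u Q ^ (i.1 + 1) = u Q' ^ (j.1 + 1) := by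
      have h0 := congrArg Subtype.val h
      exact Subtype.ext h0
    have key : ∀ (Q : Sylow p M) (i : Fin (p - 1)), zpowers (u Q ^ (i.1 + 1)) = (Q : Subgroup M) := by
      intro Q i
      refine Subgroup.eq_of_le_of_card_ge (zpowers_le.2 (by rw [hu Q]; exact pow_mem (mem_zpowers _) _)) ?_
      rw [hPc, Nat.card_zpowers, orderOf_eq_prime (by rw [← pow_mul, mul_comm, pow_mul, hup, one_pow]) (hne Q i)]
    have hQ : Q = Q' := Sylow.ext (by rw [← key Q i, ← key Q' j, h'])
    subst hQ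
    have hlt : ∀ k : Fin (p - 1), k.1 + 1 < orderOf (u Q) := fun k => by rw [hord]; omega
    have := pow_injOn_Iio_orderOf (hlt i) (hlt j) h'
    exact Prod.ext rfl (Fin.ext (Nat.succ_injective this))
  have h := Nat.card_le_card_of_injective f hf
  rwa [Nat.card_prod, Nat.card_fin, Nat.card_coe_set_eq] at h

omit [Finite G] in
/-- A normalising element whose square centralises acts as `1` or `-1` on a group of prime order. -/
theorem pm_of_sq (hp : p.Prime) {y g : G} (hy : y ^ p = 1) (hy1 : y ≠ 1) (hg : g * y * g⁻¹ ∈ zpowers y)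
    (h2 : Commute y (g * g)) : g * y * g⁻¹ = y ∨ g * y * g⁻¹ = y⁻¹ := by
  haveI := Fact.mk hp
  obtain ⟨k, hk⟩ := hg
  have hk' : y ^ k = g * y * g⁻¹ := hk
  have h4 : y ^ (k * k) = y := by
    calc y ^ (k * k) = (g * y * g⁻¹) ^ k := by rw [zpow_mul, hk']
      _ = g * y ^ k * g⁻¹ := conj_zpow
      _ = g * g * y * (g * g)⁻¹ := by rw [hk']; group
      _ = y := by rw [← h2.eq, mul_inv_cancel_right]
  have hd : (p : ℤ) ∣ (k - 1) * (k + 1) := by
    rw [show (k - 1) * (k + 1) = k * k - 1 by ring, ← orderOf_eq_prime hy hy1, orderOf_dvd_iff_zpow_eq_one,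
      zpow_sub_one, h4, mul_inv_cancel]
  rw [← hk']
  rcases Int.Prime.dvd_mul' hp hd with h | h
  · left
    rw [← orderOf_eq_prime hy hy1, orderOf_dvd_iff_zpow_eq_one, zpow_sub_one, mul_inv_eq_one] at h
    exact h
  · right
    rw [← orderOf_eq_prime hy hy1, orderOf_dvd_iff_zpow_eq_one, zpow_add_one] at h
    exact eq_inv_of_mul_eq_one_left h

end CfsgLib.M22Sylow.Loc
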