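import Cfsg.Agent.Lib.ThreeTransp.M22Sylow.Thirteen.Inverter

/-!
# The centraliser of an element of order thirteen does not have order `351`

The conjugates of an inverting involution would fix disjoint sets of members, too many in all.
-/

set_option autoImplicit false

namespace CfsgLib.M22Sylow

open CfsgLib.ThreeTransp CfsgLib.M22
open CfsgLib.PSUAut CfsgLib.U6

variable {G : Type*} [Group G] [Finite G] {D : Set G} (S : Setup D) {F : Type} [Field F] [Fintype F]
  (hF : Fintype.card F = 2 ^ 2) (hM : ∀ a ∈ D, Nonempty (Model D a F))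
include S hF hM

variable {y : G} (hy : y ^ 13 = 1) (hy1 : y ≠ 1)
include hy hy1

theorem cent_ne_351 : Nat.card ↥(Subgroup.centralizer ({y} : Set G)) ≠ 351 := by
  classical
  intro hC351
  obtain ⟨t, ht, -, hty⟩ := exists_inverter S hF hM hy hy1
  set C := Subgroup.centralizer ({y} : Set G) with hC
  have hc : ∀ g ∈ C, Commute y g := fun g hg => (Subgroup.mem_centralizer_singleton_iff.1 hg).symm
  have htt : t * t = 1 := by rw [← pow_two, ← ht, pow_orderOf_eq_one]
  have hfree : ∀ g ∈ C, ∀ x ∈ D, Commute g x → g = 1 := fun g hg x hx hgx => by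
    by_contra hne
    exact no_fixed S hF hM hy hy1 hne (hc g hg) hx hgx
  set K := C ⊓ Subgroup.centralizer ({t} : Set G) with hK
  obtain ⟨V, hVD, hVne, hV6, hVinv⟩ := exists_small S hF hM ht
  obtain ⟨x, hx⟩ := hVne
  have hKle : Nat.card K ≤ 6 := by
    refine le_trans (Loc.card_le_mul K x V fun g hg =>
      hVinv g (Subgroup.mem_centralizer_singleton_iff.1 (Subgroup.mem_inf.1 hg).2) x hx) ?_
    rw [show K ⊓ Subgroup.centralizer ({x} : Set G) = ⊥ from (Subgroup.eq_bot_iff_forall _).2 fun g hg =>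
      hfree g (Subgroup.mem_inf.1 (Subgroup.mem_inf.1 hg).1).1 x (hVD hx)
        (Subgroup.mem_centralizer_singleton_iff.1 (Subgroup.mem_inf.1 hg).2), Subgroup.card_bot, mul_one]
    exact hV6
  have hK3 : Nat.card K ≤ 3 := by
    have hd := Subgroup.card_dvd_of_le (inf_le_left : K ≤ C)
    rw [hC351] at hd
    by_contra hgt
    interval_cases hk : Nat.card K <;> norm_num at hd
  haveI := Fintype.ofFinite G
  let φ : G × G → G := fun p => p.1 * p.2 * p.1⁻¹
  let s : Finset (G × G) := (C : Set G).toFinset ×ˢ (fixSet D t).toFinset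
  have hfib : ∀ b ∈ s.image φ, (s.filter fun p => φ p = b).card ≤ Nat.card K := by
    intro b hb
    obtain ⟨⟨g, d⟩, hp, rfl⟩ := Finset.mem_image.1 hb
    simp only [s, Finset.mem_product, Set.mem_toFinset, SetLike.mem_coe] at hp
    obtain ⟨hg, hd⟩ := hp
    rw [← SetLike.coe_sort_coe, Nat.card_coe_set_eq, Set.ncard_eq_toFinset_card']
    refine Finset.card_le_card_of_injOn (fun p => g⁻¹ * p.1) (fun p hp => ?_) fun p hp p' hp' he => ?_
    · simp only [Finset.coe_filter, Set.mem_setOf_eq, s, Finset.mem_product, Set.mem_toFinset, SetLike.mem_coe,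
        φ] at hp
      obtain ⟨⟨hg', hd'⟩, he⟩ := hp
      simp only [Finset.mem_coe, Set.mem_toFinset, SetLike.mem_coe]
      set h := g⁻¹ * p.1 with hh
      have hhC : h ∈ C := mul_mem (inv_mem hg) hg'
      refine Subgroup.mem_inf.2 ⟨hhC, Subgroup.mem_centralizer_singleton_iff.2 ?_⟩
      -- both `t` and its conjugate fix `d`
      have hd1 : h * p.2 * h⁻¹ = d := by
        rw [hh]
        calc g⁻¹ * p.1 * p.2 * (g⁻¹ * p.1)⁻¹ = g⁻¹ * (p.1 * p.2 * p.1⁻¹) * g := by group
          _ = d := by rw [he]; group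
      have hfix : Commute (h * t * h⁻¹) d := hd1 ▸ (Commute.conj_iff h).2 hd'.2
      have hconj : Commute y (t * h * t⁻¹) := by
        have h1 : Commute (t * y * t⁻¹) (t * h * t⁻¹) := (Commute.conj_iff t).2 (hc h hhC)
        rw [hty] at h1
        simpa using h1.inv_left
      have hu : t * (h * t * h⁻¹) = 1 := by
        refine hfree _ (Subgroup.mem_centralizer_singleton_iff.2 (Commute.eq ?_)) d hd.1 (hd.2.mul_left hfix)
        rw [show t * (h * t * h⁻¹) = (t * h * t⁻¹) * h⁻¹ by
          rw [show t⁻¹ = t from inv_eq_self htt]; group]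
        exact (hconj.mul_right (hc h hhC).inv_right).symm
      rw [mul_eq_one_iff_inv_eq, inv_eq_self htt] at hu
      exact mul_inv_eq_iff_eq_mul.1 hu.symm
    · simp only [Finset.coe_filter, Set.mem_setOf_eq, φ] at hp hp'
      have h1 : p.1 = p'.1 := mul_left_cancel he
      have h2 := hp.2.trans hp'.2.symm
      rw [h1] at h2
      exact Prod.ext h1 (mul_left_cancel (mul_right_cancel h2))
  have himg : (s.image φ).card ≤ 3510 := by
    rw [← ncard_eq S hF hM, ← Set.ncard_coe_finset]
    refine Set.ncard_le_ncard ?_ (Set.toFinite _)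
    intro b hb
    obtain ⟨⟨g, d⟩, hp, rfl⟩ := Finset.mem_image.1 hb
    simp only [s, Finset.mem_product, Set.mem_toFinset, SetLike.mem_coe] at hp
    exact S.tt.conj g d hp.2.1
  have h := Finset.card_le_mul_card_image s (Nat.card K) hfib
  rw [Finset.card_product, ← Set.ncard_eq_toFinset_card', ← Set.ncard_eq_toFinset_card',
    ← Nat.card_coe_set_eq (C : Set G), SetLike.coe_sort_coe, hC351] at h
  have h31 := invol_many S hF hM ht
  nlinarith [Nat.mul_le_mul hK3 himg]

end CfsgLib.M22Sylow
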