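import Cfsg.Agent.Lib.ThreeTransp.M22Base

/-!
# Maximal sets of pairwise commuting members are bases
-/

set_option autoImplicit false

namespace CfsgLib.M22Sylow

open CfsgLib.ThreeTransp CfsgLib.M22
open CfsgLib.PSUAut CfsgLib.U6

variable {G : Type*} [Group G] [Finite G] {D : Set G} (S : Setup D) {F : Type} [Field F] [Fintype F]
  (hF : Fintype.card F = 2 ^ 2) (hM : ∀ a ∈ D, Nonempty (Model D a F))
include hF

/-- An isotropic vector orthogonal to an independent pair and off its span. -/
theorem exists_iso_out {k : ℕ} (b : Fin k → Fin 6 → F) (hk : k ≤ 2) (hb : LinearIndependent F b) :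
    ∃ z, Isot 2 z ∧ (∀ i, Cfsg.hermForm 6 F 2 z (b i) = 0) ∧ z ∉ Submodule.span F (Set.range b) := by
  classical
  have hc : ∀ i, ∃ c, (∀ j, j ≠ i → Cfsg.hermForm 6 F 2 c (b j) = 0) ∧ Cfsg.hermForm 6 F 2 c (b i) = 1 := by
    intro i
    obtain ⟨c, hc, hci⟩ := U6.exists_perp_ne hF (Function.update b i 0) (z := b i) fun hm => by
      refine hb.notMem_span_image (s := {j | j ≠ i}) (x := i) (by simp) ?_
      have hle : Submodule.span F (Set.range (Function.update b i 0)) ≤ Submodule.span F (b '' {j | j ≠ i}) := by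
        refine Submodule.span_le.2 ?_
        rintro _ ⟨j, rfl⟩
        by_cases hj : j = i
        · subst hj; rw [Function.update_self]; exact Submodule.zero_mem _
        · rw [Function.update_of_ne hj]; exact Submodule.subset_span ⟨j, hj, rfl⟩
      exact hle hm
    exact ⟨c, fun j hj => by simpa [Function.update_of_ne hj] using hc j, hci⟩
  choose c hc hcb using hc
  obtain ⟨z, hz, hperp⟩ := U6.exists_iso_perp_of hF (Fin.append b c) (by omega)
  have hzb : ∀ i, Cfsg.hermForm 6 F 2 z (b i) = 0 := fun i => by simpa using hperp (Fin.castAdd k i)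
  refine ⟨z, hz, hzb, fun hm => hz.1 ?_⟩
  obtain ⟨r, rfl⟩ := (Submodule.mem_span_range_iff_exists_fun F).1 hm
  refine Finset.sum_eq_zero fun i _ => ?_
  let f : (Fin 6 → F) →+ F := AddMonoidHom.mk' (fun v => Cfsg.hermForm 6 F 2 v (c i))
    (fun u v => U6.add_left hF u v (c i))
  have h0 : f (∑ j, r j • b j) = 0 := by
    have := hperp (Fin.natAdd k i)
    rw [Fin.append_right] at this
    exact this
  rw [map_sum, Finset.sum_eq_single i] at h0
  · change Cfsg.hermForm 6 F 2 (r i • b i) (c i) = 0 at h0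
    rw [U6.smul_left hF, U6.comm_one hF (hcb i), mul_one] at h0
    rw [h0, zero_smul]
  · intro j _ hji
    show Cfsg.hermForm 6 F 2 (r j • b j) (c i) = 0
    rw [U6.smul_left hF, (U6.comm_zero hF).1 (hc i j hji), mul_zero]
  · simp

include S hM

/-- A maximal set of pairwise commuting members has twenty-two of them. -/
theorem maximal_clique {B : Set G} (hBD : B ⊆ D) (hne : B.Nonempty) (hc : ∀ x ∈ B, ∀ y ∈ B, Commute x y)
    (hmax : ∀ d ∈ D, (∀ x ∈ B, Commute d x) → d ∈ B) : B.ncard = 22 := by
  obtain ⟨a, haB⟩ := hne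
  have ha := hBD haB
  obtain ⟨A⟩ := hM a ha
  set V := {v : Fin 6 → F | ∃ (e : G) (le : e ∈ link D a), e ∈ B ∧ IsPt (A.img le) v} with hV
  set W := Submodule.span F V with hW
  have hperp : ∀ v ∈ W, ∀ w ∈ W, Cfsg.hermForm 6 F 2 v w = 0 := by
    intro v hv w hw
    induction hv using Submodule.span_induction with
    | mem v hv =>
      induction hw using Submodule.span_induction with
      | mem w hw =>
        obtain ⟨e, le, he, hv⟩ := hv
        obtain ⟨f, lf, hf, hw⟩ := hw
        exact (A.comm_iff S hF ha le lf hv hw).1 (hc e he f hf)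
      | zero => exact U6.zero_right hF v
      | add x y _ _ i1 i2 => rw [U6.add_right hF, i1, i2, add_zero]
      | smul r x _ i1 => rw [U6.smul_right hF, i1, mul_zero]
    | zero => exact U6.zero_left hF w
    | add x y _ _ i1 i2 => rw [U6.add_left hF, i1, i2, add_zero]
    | smul r x _ i1 => rw [U6.smul_left hF, i1, mul_zero]
  -- a member with point orthogonal to `W` belongs to `B`
  have hjoin : ∀ {e : G} (le : e ∈ link D a) {v : Fin 6 → F}, IsPt (A.img le) v →
      (∀ w ∈ V, Cfsg.hermForm 6 F 2 v w = 0) → e ∈ B := fun {e} le {v} hv h => hmax e le.1 fun x hx => by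
    by_cases hxa : x = a
    · exact hxa ▸ le.2.2.symm
    have lx : x ∈ link D a := ⟨hBD hx, hxa, hc a haB x hx⟩
    obtain ⟨w, hw⟩ := A.exists_pt_of_link S hF ha lx
    exact (A.comm_iff S hF ha le lx hv hw).2 (h w ⟨x, lx, hx, hw⟩)
  by_cases hdim : 3 ≤ Module.finrank F W
  · obtain ⟨f, hf⟩ := exists_linearIndependent_of_le_finrank (R := F) (M := W) (n := 3) hdim
    have hf' : LinearIndependent F fun i => (f i : Fin 6 → F) := hf.map' W.subtype W.ker_subtype
    have hi₂ : (f 1 : Fin 6 → F) ∉ Submodule.span F {(f 0 : Fin 6 → F)} := by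
      have := hf'.notMem_span_image (s := {0}) (x := 1) (by simp)
      rwa [Set.image_singleton] at this
    have hi₃ : (f 2 : Fin 6 → F) ∉ Submodule.span F {(f 0 : Fin 6 → F), (f 1 : Fin 6 → F)} := by
      have := hf'.notMem_span_image (s := {0, 1}) (x := 2) (by simp)
      rwa [Set.image_pair] at this
    have P : IsPlane (f 0 : Fin 6 → F) (f 1) (f 2) := ⟨hperp _ (f 0).2 _ (f 0).2, hperp _ (f 1).2 _ (f 1).2,
      hperp _ (f 2).2 _ (f 2).2, hperp _ (f 0).2 _ (f 1).2, hperp _ (f 0).2 _ (f 2).2, hperp _ (f 1).2 _ (f 2).2,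
      hf'.ne_zero 0, hi₂, hi₃⟩
    have hsub : Submodule.span F {(f 0 : Fin 6 → F), (f 1 : Fin 6 → F), (f 2 : Fin 6 → F)} ≤ W :=
      Submodule.span_le.2 (by rintro x (rfl | rfl | rfl) <;> exact SetLike.coe_mem _)
    have h22 := (A.base_of_plane S hF ha P).card
    refine le_antisymm (width_le S hF hM hBD hc) (h22 ▸ Set.ncard_le_ncard ?_ (Set.toFinite _))
    rintro e (rfl | ⟨le, v, hv, hvs⟩)
    · exact haB
    · exact hjoin le hv fun w hw => hperp v (hsub hvs) w (Submodule.subset_span hw)
  · exfalso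
    let bb := Module.finBasis F W
    have hrange : Submodule.span F (Set.range fun i => (bb i : Fin 6 → F)) = W := by
      rw [show (Set.range fun i => (bb i : Fin 6 → F)) = W.subtype '' Set.range bb from by
        rw [← Set.range_comp]; rfl, ← Submodule.map_span, bb.span_eq, Submodule.map_top, Submodule.range_subtype]
    obtain ⟨z, hz, hzb, hzW⟩ := exists_iso_out hF (fun i => (bb i : Fin 6 → F)) (by omega)
      (bb.linearIndependent.map' W.subtype W.ker_subtype)
    rw [hrange] at hzW
    have hzperp : ∀ w ∈ W, Cfsg.hermForm 6 F 2 z w = 0 := by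
      intro w hw
      rw [← hrange] at hw
      induction hw using Submodule.span_induction with
      | mem w hw => obtain ⟨i, rfl⟩ := hw; exact hzb i
      | zero => exact U6.zero_right hF z
      | add x y _ _ i1 i2 => rw [U6.add_right hF, i1, i2, add_zero]
      | smul r x _ i1 => rw [U6.smul_right hF, i1, mul_zero]
    obtain ⟨X, hX⟩ := U6.exists_pt hF hz
    obtain ⟨e, le, rfl⟩ := A.exists_link_of_pt S hF ha hX
    exact hzW (Submodule.subset_span ⟨e, le, hjoin le hX fun w hw => hzperp w (Submodule.subset_span hw), hX⟩)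

end CfsgLib.M22Sylow
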