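import Mathlib

/-!
# A congruence for automorphisms of order three of a strongly regular relation with parameters `(3510, 693, 180, 126)`

The trace of the automorphism on the eigenspace of dimension `429` is an integer divisible by three.
-/

set_option autoImplicit false

namespace CfsgLib.M22Sylow

open Matrix

variable {V : Type*} [Fintype V] [DecidableEq V]

/-- The rank of an idempotent matrix is its trace. -/
theorem trace_eq_finrank {P : Matrix V V ℝ} (h : P * P = P) :
    P.trace = (Module.finrank ℝ ↥(LinearMap.range (Matrix.toLin' P)) : ℝ) := by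
  have hproj : LinearMap.IsProj (LinearMap.range (Matrix.toLin' P)) (Matrix.toLin' P) := by
    refine ⟨fun x => LinearMap.mem_range_self _ x, ?_⟩
    rintro _ ⟨y, rfl⟩
    rw [← LinearMap.comp_apply, ← Matrix.toLin'_mul, h]
  rw [← Matrix.trace_toLin'_eq]
  exact hproj.trace

/-- An idempotent carrying a square root of `-3` has even rank. -/
theorem even_trace {P K : Matrix V V ℝ} (h : P * P = P) (hK : P * K = K) (hKK : K * K = (-3 : ℝ) • P) :
    ∃ m : ℕ, P.trace = 2 * (m : ℝ) := by
  set R := LinearMap.range (Matrix.toLin' P) with hR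
  have hmap : ∀ x ∈ R, Matrix.toLin' K x ∈ R := fun x _ =>
    ⟨Matrix.toLin' K x, by rw [← LinearMap.comp_apply, ← Matrix.toLin'_mul, hK]⟩
  set L := (Matrix.toLin' K).restrict hmap with hL
  have hLL : L * L = (-3 : ℝ) • LinearMap.id := by
    refine LinearMap.ext fun x => Subtype.ext ?_
    obtain ⟨x, ⟨w, rfl⟩⟩ := x
    show Matrix.toLin' K (Matrix.toLin' K (Matrix.toLin' P w)) = (-3 : ℝ) • Matrix.toLin' P w
    rw [← LinearMap.comp_apply (f := Matrix.toLin' K), ← Matrix.toLin'_mul, hKK, map_smul, LinearMap.smul_apply,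
      ← LinearMap.comp_apply, ← Matrix.toLin'_mul, h]
  have hdet := congrArg LinearMap.det hLL
  rw [map_mul, LinearMap.det_smul, LinearMap.det_id, mul_one] at hdet
  rcases Nat.even_or_odd (Module.finrank ℝ R) with ⟨m, hm⟩ | hodd
  · refine ⟨m, ?_⟩
    rw [trace_eq_finrank h, ← hR, hm]
    push_cast
    ring
  · exfalso
    have h0 : ((-3 : ℝ)) ^ Module.finrank ℝ R < 0 := hodd.pow_neg (by norm_num)
    nlinarith [mul_self_nonneg (LinearMap.det L)]

/-- The congruence. -/
theorem three_trace_congr (r : V → V → Prop) [DecidableRel r] (hs : ∀ x y, r x y → r y x) (hi : ∀ x, ¬ r x x)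
    (hcard : Fintype.card V = 3510) (hk : ∀ x, Nat.card {y // r x y} = 693)
    (hl : ∀ x y, r x y → Nat.card {z // r x z ∧ r y z} = 180)
    (hm : ∀ x y, x ≠ y → ¬ r x y → Nat.card {z // r x z ∧ r y z} = 126)
    (π : Equiv.Perm V) (hπ : ∀ x, π (π (π x)) = x) (hr : ∀ x y, r (π x) (π y) ↔ r x y) :
    ∃ i : ℤ, (Nat.card {x // r x (π x)} : ℤ) + 9 * Nat.card {x // π x = x} - 702 = 216 * i := by
  classical
  let A : Matrix V V ℝ := Matrix.of fun x y => if r x y then 1 else 0
  let J : Matrix V V ℝ := Matrix.of fun _ _ => 1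
  let P : Matrix V V ℝ := Matrix.of fun x y => if π x = y then 1 else 0
  have hAA : A * A = (567 : ℝ) • (1 : Matrix V V ℝ) + (54 : ℝ) • A + (126 : ℝ) • J := by
    ext x y
    have hc : (A * A) x y = (Nat.card {z // r x z ∧ r y z} : ℝ) := by
      simp only [A, Matrix.mul_apply, Matrix.of_apply, ite_mul, one_mul, zero_mul, ← ite_and]
      rw [Finset.sum_boole, Nat.card_eq_fintype_card, Fintype.card_subtype]
      congr 2
      exact Finset.filter_congr fun z _ => ⟨fun h => ⟨h.1, hs _ _ h.2⟩, fun h => ⟨h.1, hs _ _ h.2⟩⟩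
    rw [hc]
    simp only [A, J, Matrix.add_apply, Matrix.smul_apply, Matrix.of_apply, smul_eq_mul]
    by_cases hxy : x = y
    · subst hxy
      rw [Matrix.one_apply_eq, if_neg (hi x), Nat.card_congr (Equiv.subtypeEquivRight
        fun z => show r x z ∧ r x z ↔ r x z from and_self_iff), hk]
      norm_num
    · rw [Matrix.one_apply_ne hxy]
      by_cases h : r x y
      · rw [if_pos h, hl x y h]; norm_num
      · rw [if_neg h, hm x y hxy h]; norm_num
  have hAJ : A * J = (693 : ℝ) • J := by
    ext x y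
    simp only [A, J, Matrix.mul_apply, Matrix.smul_apply, Matrix.of_apply, mul_one, smul_eq_mul]
    rw [Finset.sum_boole, show (693 : ℝ) = ((693 : ℕ) : ℝ) by norm_num, ← hk x, Nat.card_eq_fintype_card,
      Fintype.card_subtype]
  have hJA : J * A = (693 : ℝ) • J := by
    ext x y
    simp only [A, J, Matrix.mul_apply, Matrix.smul_apply, Matrix.of_apply, one_mul, smul_eq_mul, mul_one]
    rw [Finset.sum_boole, show (693 : ℝ) = ((693 : ℕ) : ℝ) by norm_num, ← hk y, Nat.card_eq_fintype_card,
      Fintype.card_subtype]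
    congr 2
    exact Finset.filter_congr fun z _ => ⟨hs _ _, hs _ _⟩
  have hJJ : J * J = (3510 : ℝ) • J := by
    ext x y
    simp [J, Matrix.mul_apply, hcard]
  set E : Matrix V V ℝ := (72 : ℝ)⁻¹ • (A + (9 : ℝ) • 1 - (5 : ℝ)⁻¹ • J) with hE
  have hEE : E * E = E := by
    rw [hE]
    simp only [add_mul, sub_mul, mul_add, mul_sub, smul_mul_assoc, mul_smul_comm, one_mul, mul_one, hAA, hAJ,
      hJA, hJJ, smul_smul, smul_add, smul_sub]
    module
  have trA : A.trace = 0 := Finset.sum_eq_zero fun x _ => by simp [A, hi x]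
  have trJ : J.trace = 3510 := by simp [J, Matrix.trace, hcard]
  have trE : E.trace = 429 := by
    rw [hE, Matrix.trace_smul, Matrix.trace_sub, Matrix.trace_add, Matrix.trace_smul, Matrix.trace_smul,
      trA, trJ, Matrix.trace_one, hcard]
    norm_num
  -- the permutation matrix
  have hPm : ∀ (B : Matrix V V ℝ) x y, (P * B) x y = B (π x) y := fun B x y => by
    simp [P, Matrix.mul_apply, ite_mul]
  have hmP : ∀ (B : Matrix V V ℝ) x y, (B * P) x y = B x (π.symm y) := fun B x y => by
    simp only [P, Matrix.mul_apply, Matrix.of_apply, mul_ite, mul_one, mul_zero]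
    rw [Finset.sum_eq_single (π.symm y)]
    · simp
    · intro z _ hz
      exact if_neg fun h => hz (by rw [← h, Equiv.symm_apply_apply])
    · exact fun h => absurd (Finset.mem_univ _) h
  have hPA : P * A = A * P := by
    ext x y
    rw [hPm, hmP]
    simp only [A, Matrix.of_apply]
    exact if_congr (by rw [← hr x (π.symm y), Equiv.apply_symm_apply]) rfl rfl
  have hPJ : P * J = J * P := by
    ext x y
    rw [hPm, hmP]
    rfl
  have hPE : P * E = E * P := by
    rw [hE]
    simp only [mul_add, mul_sub, add_mul, sub_mul, smul_mul_assoc, mul_smul_comm, mul_one, one_mul, hPA, hPJ]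
  have hP3 : P * (P * P) = 1 := by
    ext x y
    rw [hPm, hPm]
    simp [P, Matrix.one_apply, hπ]
  obtain ⟨χ, hχd⟩ : ∃ χ : ℝ, χ = (P * E).trace := ⟨_, rfl⟩
  have trP : P.trace = (Nat.card {x // π x = x} : ℝ) := by
    simp [P, Matrix.trace, Nat.card_eq_fintype_card, Fintype.card_subtype]
  have trPA : (P * A).trace = (Nat.card {x // r x (π x)} : ℝ) := by
    simp only [Matrix.trace, Matrix.diag, hPm, A, Matrix.of_apply]
    rw [Finset.sum_boole, Nat.card_eq_fintype_card, Fintype.card_subtype]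
    congr 2
    exact Finset.filter_congr fun z _ => ⟨hs _ _, hs _ _⟩
  have trPJ : (P * J).trace = 3510 := by
    simp [Matrix.trace, Matrix.diag, hPm, J, hcard]
  have hχ : χ = ((Nat.card {x // r x (π x)} : ℝ) + 9 * Nat.card {x // π x = x} - 702) / 72 := by
    rw [hχd, hE]
    simp only [mul_add, mul_sub, mul_smul_comm, mul_one, Matrix.trace_smul, Matrix.trace_sub, Matrix.trace_add,
      trP, trPA, trPJ, smul_eq_mul]
    ring
  -- the inverse has the same trace
  have hP2t : P * P = Pᵀ := by
    ext x y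
    rw [hPm]
    simp only [P, Matrix.transpose_apply, Matrix.of_apply]
    refine if_congr ⟨fun h => ?_, fun h => ?_⟩ rfl rfl
    · rw [← h, hπ]
    · rw [← h, hπ]
  have hEt : Eᵀ = E := by
    rw [hE]
    simp only [Matrix.transpose_smul, Matrix.transpose_sub, Matrix.transpose_add, Matrix.transpose_one]
    congr 3
    ext x y
    simp only [A, Matrix.transpose_apply, Matrix.of_apply]
    exact if_congr ⟨hs _ _, hs _ _⟩ rfl rfl
  have hχ2 : (P * P * E).trace = χ := by
    rw [hχd, hP2t, ← Matrix.trace_transpose (Pᵀ * E), Matrix.transpose_mul, Matrix.transpose_transpose, hEt,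
      Matrix.trace_mul_comm]
  -- the two parts
  set Q : Matrix V V ℝ := 1 + P + P * P with hQ
  have hQP : Q * P = Q := by
    rw [hQ, add_mul, add_mul, one_mul, mul_assoc, hP3]; abel
  have hQQ : Q * Q = (3 : ℝ) • Q := by
    conv_lhs => rw [hQ]
    rw [mul_add, mul_add, mul_one, ← hQ, ← mul_assoc, hQP, hQP]
    module
  have hQE : Q * E = E * Q := by
    rw [hQ]; simp only [add_mul, mul_add, one_mul, mul_one, hPE, mul_assoc]
    rw [← mul_assoc P E P, hPE, mul_assoc]
  set E1 : Matrix V V ℝ := (3 : ℝ)⁻¹ • (Q * E) with hE1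
  have hE11 : E1 * E1 = E1 := by
    rw [hE1, smul_mul_assoc, mul_smul_comm, smul_smul, mul_assoc Q E (Q * E), ← mul_assoc E Q E, ← hQE,
      mul_assoc Q E E, hEE, ← mul_assoc Q Q E, hQQ, smul_mul_assoc, smul_smul]
    norm_num
  have hEE1 : E * E1 = E1 := by
    rw [hE1, mul_smul_comm, ← mul_assoc, ← hQE, mul_assoc, hEE]
  have hE1E : E1 * E = E1 := by
    rw [hE1, smul_mul_assoc, mul_assoc, hEE]
  set E2 : Matrix V V ℝ := E - E1 with hE2
  have hE22 : E2 * E2 = E2 := by
    rw [hE2]; simp only [sub_mul, mul_sub, hEE, hEE1, hE1E, hE11]; abel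
  set K : Matrix V V ℝ := (P - P * P) * E with hK
  have hQK : Q * (P - P * P) = 0 := by
    rw [mul_sub, ← mul_assoc, hQP, hQP, sub_self]
  have hE1K : E1 * K = 0 := by
    rw [hE1, hK, smul_mul_assoc, mul_assoc Q E, ← mul_assoc E (P - P * P) E,
      show E * (P - P * P) = (P - P * P) * E by
        rw [mul_sub, sub_mul, ← hPE, ← mul_assoc, ← hPE, mul_assoc, ← hPE, mul_assoc],
      mul_assoc (P - P * P) E E, hEE, ← mul_assoc Q, hQK, zero_mul, smul_zero]
  have hEK : E * K = K := by
    rw [hK, ← mul_assoc, show E * (P - P * P) = (P - P * P) * E by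
        rw [mul_sub, sub_mul, ← hPE, ← mul_assoc, ← hPE, mul_assoc, ← hPE, mul_assoc], mul_assoc, hEE]
  have hKK : K * K = (-3 : ℝ) • E2 := by
    have hsq : (P - P * P) * (P - P * P) = Q - (3 : ℝ) • 1 := by
      rw [hQ]
      simp only [sub_mul, mul_sub, mul_assoc, hP3, mul_one]
      module
    conv_lhs => arg 1; rw [hK]
    rw [mul_assoc, hEK, hK, ← mul_assoc, hsq, sub_mul, smul_mul_assoc, one_mul, hE2, hE1]
    module
  obtain ⟨m, hm2⟩ := even_trace hE22 (by rw [hE2, sub_mul, hEK, hE1K, sub_zero]) hKK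
  have htr1 : E1.trace = (429 + 2 * χ) / 3 := by
    rw [hE1, hQ, Matrix.trace_smul, add_mul, add_mul, one_mul, Matrix.trace_add, Matrix.trace_add, trE, ← hχd,
      hχ2, smul_eq_mul]
    ring
  rw [hE2, Matrix.trace_sub, trE, htr1] at hm2
  refine ⟨143 - (m : ℤ), ?_⟩
  have hR : ((Nat.card {x // r x (π x)} : ℝ) + 9 * Nat.card {x // π x = x} - 702) = 216 * (143 - (m : ℝ)) := by
    linarith
  exact_mod_cast hR

end CfsgLib.M22Sylow
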