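import Cfsg.Agent.Lib.ThreeTransp.M22Sylow.Thirteen.Exclude
import Cfsg.Agent.Lib.ThreeTransp.M22Sylow.Thirteen.Clique
import Cfsg.Agent.Lib.ThreeTransp.M22Sylow.Thirteen.Trace

/-!
# The involutions centralising an element of order three that commutes with one of order thirteen

There are exactly `117` of them.
-/

set_option autoImplicit false

namespace CfsgLib.M22Sylow

open CfsgLib.ThreeTransp CfsgLib.M22
open CfsgLib.PSUAut CfsgLib.U6

variable {G : Type*} [Group G] [Finite G] {D : Set G} (S : Setup D) {F : Type} [Field F] [Fintype F]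
  (hF : Fintype.card F = 2 ^ 2) (hM : ∀ a ∈ D, Nonempty (Model D a F))
include S hF hM

variable {z : G} (hz : z ^ 3 = 1)
include hz

/-- The number of members commuting with their conjugate. -/
theorem moved_congr (hnf : ∀ e ∈ D, ¬ Commute z e) :
    ∃ i : ℤ, ({d | d ∈ D ∧ z * d * z⁻¹ ∈ link D d}.ncard : ℤ) - 702 = 216 * i := by
  classical
  haveI := Fintype.ofFinite ↥D
  let π : Equiv.Perm ↥D :=
    { toFun := fun x => ⟨z * x.1 * z⁻¹, S.tt.conj z x.1 x.2⟩
      invFun := fun x => ⟨z⁻¹ * x.1 * z, by simpa using S.tt.conj z⁻¹ x.1 x.2⟩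
      left_inv := fun x => Subtype.ext (by group)
      right_inv := fun x => Subtype.ext (by group) }
  have hsub : ∀ (P : G → Prop), Nat.card {y : ↥D // P y.1} = {e | e ∈ D ∧ P e}.ncard := fun P => by
    rw [← Nat.card_coe_set_eq]
    exact Nat.card_congr ⟨fun e => ⟨e.1.1, e.1.2, e.2⟩, fun e => ⟨⟨e.1, e.2.1⟩, e.2.2⟩, fun _ => rfl, fun _ => rfl⟩
  obtain ⟨i, hi⟩ := three_trace_congr (fun x y : ↥D => y.1 ∈ link D x.1) (fun x y h => link_swap x.2 h)
    (fun x h => h.2.1 rfl) (by rw [← Nat.card_eq_fintype_card, Nat.card_coe_set_eq, ncard_eq S hF hM])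
    (fun x => by
      rw [hsub fun e => e ∈ link D x.1, ← link_ncard_eq S hF hM x.2]
      congr 1; ext e
      exact ⟨fun h => h.2, fun h => ⟨h.1, h⟩⟩)
    (fun x y h => by
      rw [hsub fun e => e ∈ link D x.1 ∧ e ∈ link D y.1, ← link_two_ncard S hF hM x.2 h]
      congr 1; ext e
      exact ⟨fun h => h.2, fun h => ⟨h.1.1, h⟩⟩)
    (fun x y hne h => by
      rw [hsub fun e => e ∈ link D x.1 ∧ e ∈ link D y.1, ← (nonlink_count S hF hM x.2 y.2
        fun hc => h ⟨y.2, fun e => hne (Subtype.ext e.symm), hc⟩).2]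
      congr 1; ext e
      exact ⟨fun h => h.2, fun h => ⟨h.1.1, h⟩⟩)
    π (fun x => Subtype.ext (show z * (z * (z * x.1 * z⁻¹) * z⁻¹) * z⁻¹ = x.1 by
      calc z * (z * (z * x.1 * z⁻¹) * z⁻¹) * z⁻¹ = z ^ 3 * x.1 * (z ^ 3)⁻¹ := by rw [pow_succ, pow_two]; group
        _ = x.1 := by rw [hz]; group))
    (fun x y => ⟨fun h => ⟨y.2, fun e => h.2.1 (congrArg (fun v => z * v * z⁻¹) e),
      (Commute.conj_iff z).1 h.2.2⟩, fun h => ⟨S.tt.conj z y.1 y.2,
        fun e => h.2.1 (mul_left_cancel (mul_right_cancel e)), (Commute.conj_iff z).2 h.2.2⟩⟩)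
  refine ⟨i, ?_⟩
  have h0 : Nat.card {x : ↥D // π x = x} = 0 := by
    rw [Nat.card_eq_zero]
    refine Or.inl ⟨fun x => hnf x.1.1 x.1.2 ?_⟩
    exact mul_inv_eq_iff_eq_mul.1 (congrArg Subtype.val x.2)
  rw [h0, show Nat.card {x : ↥D // (π x).1 ∈ link D x.1} =
    {d | d ∈ D ∧ z * d * z⁻¹ ∈ link D d}.ncard from hsub fun e => z * e * z⁻¹ ∈ link D e] at hi
  push_cast at hi
  linarith

/-- Some member is not moved to a commuting one. -/
theorem moved_lt (hnf : ∀ e ∈ D, ¬ Commute z e) : {d | d ∈ D ∧ z * d * z⁻¹ ∈ link D d}.ncard ≠ 3510 := by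
  classical
  intro h
  have hall : ∀ d ∈ D, z * d * z⁻¹ ∈ link D d := fun d hd => by
    have heq := Set.eq_of_subset_of_ncard_le (fun e he => he.1 : {d | d ∈ D ∧ z * d * z⁻¹ ∈ link D d} ⊆ D)
      (by rw [h, ncard_eq S hF hM]) (Set.toFinite _)
    exact ((Set.ext_iff.1 heq d).2 hd).2
  let cj : G → G := fun v => z * v * z⁻¹
  have cj3 : ∀ v, cj (cj (cj v)) = v := fun v => by
    show z * (z * (z * v * z⁻¹) * z⁻¹) * z⁻¹ = v
    calc z * (z * (z * v * z⁻¹) * z⁻¹) * z⁻¹ = z ^ 3 * v * (z ^ 3)⁻¹ := by rw [pow_succ, pow_two]; group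
      _ = v := by rw [hz]; group
  let 𝓑 : Set (Set G) := {B | B ⊆ D ∧ (∀ x ∈ B, ∀ x' ∈ B, Commute x x') ∧ ∀ x ∈ B, cj x ∈ B}
  let orb : G → Set G := fun d => {d, cj d, cj (cj d)}
  have horb : ∀ d ∈ D, orb d ∈ 𝓑 := by
    intro d hd
    have h1 := (hall d hd).2.2
    have hd1 : cj d ∈ D := (hall d hd).1
    have h2 := (hall _ hd1).2.2
    have hd2 : cj (cj d) ∈ D := (hall _ hd1).1
    have h3 : Commute (cj (cj d)) d := by
      have : Commute (cj (cj d)) (cj (cj (cj d))) := (hall _ hd2).2.2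
      rwa [cj3] at this
    refine ⟨?_, ?_, ?_⟩
    · rintro x (rfl | rfl | rfl) <;> assumption
    · rintro x (rfl | rfl | rfl) x' (rfl | rfl | rfl)
      exacts [Commute.refl _, h1, h3.symm, h1.symm, Commute.refl _, h2, h3, h2.symm, Commute.refl _]
    · rintro x (rfl | rfl | rfl)
      · exact Or.inr (Or.inl rfl)
      · exact Or.inr (Or.inr rfl)
      · exact Or.inl (cj3 d)
  obtain ⟨a, ha, -⟩ := S.exists_noncommuting
  obtain ⟨B, ⟨hBD, hBc, hBi⟩, hmax⟩ := Set.exists_max_image 𝓑 (fun B => B.ncard) (Set.toFinite _) ⟨_, horb a ha⟩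
  have hBne : B.Nonempty := Set.nonempty_of_ncard_ne_zero (by
    have := hmax _ (horb a ha)
    have h1 : (orb a).ncard ≠ 0 := Set.ncard_ne_zero_of_mem (Set.mem_insert a _) (Set.toFinite _)
    omega)
  have hmaxc : ∀ d ∈ D, (∀ x ∈ B, Commute d x) → d ∈ B := by
    intro d hd hdB
    by_contra hdn
    have hB1 : ∀ x ∈ B, Commute (cj d) x := fun x hx => by
      have h' := (Commute.conj_iff z).2 (hdB _ (hBi _ (hBi x hx)))
      have e : z * cj (cj x) * z⁻¹ = x := cj3 x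
      rwa [e] at h'
    have hB2 : ∀ x ∈ B, Commute (cj (cj d)) x := fun x hx => by
      have h' := (Commute.conj_iff z).2 (hB1 _ (hBi _ (hBi x hx)))
      have e : z * cj (cj x) * z⁻¹ = x := cj3 x
      rwa [e] at h'
    obtain ⟨o1, o2, o3⟩ := horb d hd
    have ho : ∀ x ∈ orb d, ∀ x' ∈ B, Commute x x' := by
      rintro x (rfl | rfl | rfl) x' hx'
      exacts [hdB x' hx', hB1 x' hx', hB2 x' hx']
    have hle := hmax (B ∪ orb d) ⟨Set.union_subset hBD o1, by
      rintro x (hx | hx) x' (hx' | hx')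
      exacts [hBc x hx x' hx', (ho x' hx' x hx).symm, ho x hx x' hx', o2 x hx x' hx'], by
      rintro x (hx | hx)
      exacts [Or.inl (hBi x hx), Or.inr (o3 x hx)]⟩
    have := Set.ncard_lt_ncard (show B ⊂ B ∪ orb d from Set.ssubset_iff_subset_ne.2
      ⟨Set.subset_union_left, fun e => hdn (e ▸ Or.inr (Set.mem_insert d _))⟩) (Set.toFinite _)
    omega
  have h22 := maximal_clique S hF hM hBD hBne hBc hmaxc
  have h3 := Loc.fix_modEq Nat.prime_three hz B hBi
  rw [h22, show {e | e ∈ B ∧ Commute z e} = ∅ from Set.eq_empty_iff_forall_notMem.2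
    fun e he => hnf e (hBD he.1) he.2, Set.ncard_empty] at h3
  norm_num [Nat.ModEq] at h3

omit hz in
theorem tri_of_invol {t : G} (hz : z ^ 3 = 1) (hnf : ∀ e ∈ D, ¬ Commute z e) (ht : orderOf t = 2)
    (hzt : Commute z t) : ∃ a b c, Tri D a b c ∧ a * b * c = t := by
  rcases invol_cases S hF hM ht with htD | ⟨a, b, ha, hb, hab⟩ | h
  · exact absurd hzt (hnf t htD)
  · exfalso
    refine hnf a ha (fixed_of_ncard_lt Nat.prime_three hz {a, b} ?_
      (lt_of_le_of_lt ((Set.ncard_insert_le _ _).trans (by simp)) (by norm_num : 2 < 3)) (Or.inl rfl))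
    have h : (z * a * z⁻¹) * (z * b * z⁻¹) = a * b := by
      calc (z * a * z⁻¹) * (z * b * z⁻¹) = z * (a * b) * z⁻¹ := by group
        _ = a * b := by rw [hab, hzt.eq, mul_inv_cancel_right]
    have hne : a ≠ b := hb.2.1.symm
    rcases pair_unique S hF hM (S.tt.conj z a ha) (S.tt.conj z b hb.1) ha hb.1
      (fun h' => hne (mul_left_cancel (mul_right_cancel h'))) hne ((Commute.conj_iff z).2 hb.2.2) hb.2.2 h with
      ⟨e1, e2⟩ | ⟨e1, e2⟩
    · rintro x (rfl | rfl)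
      · exact Or.inl e1
      · exact Or.inr e2
    · rintro x (rfl | rfl)
      · exact Or.inr e1
      · exact Or.inl e2
  · exact h

/-- The involutions centralising `z`. -/
theorem invol_count {y : G} (hy : y ^ 13 = 1) (hy1 : y ≠ 1) (hc : Commute y z) (hz1 : z ≠ 1) :
    {t | orderOf t = 2 ∧ Commute z t}.ncard = 117 := by
  have hnf : ∀ e ∈ D, ¬ Commute z e := fun e he => no_fixed S hF hM hy hy1 hz1 hc he
  set M := {d | d ∈ D ∧ z * d * z⁻¹ ∈ link D d} with hMdef
  obtain ⟨i, hi⟩ := moved_congr S hF hM hz hnf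
  have hne := moved_lt S hF hM hz hnf
  rw [← hMdef] at hi hne
  have hle : M.ncard ≤ 3510 := ncard_eq S hF hM ▸ Set.ncard_le_ncard (fun e he => he.1) (Set.toFinite _)
  have h13 : 13 ∣ M.ncard := by
    have hinv : ∀ d ∈ M, y * d * y⁻¹ ∈ M := fun d hd => ⟨S.tt.conj y d hd.1, by
      have h := link_conj S.tt y hd.2
      rwa [show y * (z * d * z⁻¹) * y⁻¹ = z * (y * d * y⁻¹) * z⁻¹ by
        calc y * (z * d * z⁻¹) * y⁻¹ = (y * z) * d * (y * z)⁻¹ := by group
          _ = (z * y) * d * (z * y)⁻¹ := by rw [hc.eq]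
          _ = z * (y * d * y⁻¹) * z⁻¹ := by group] at h⟩
    have h := Loc.fix_modEq (by norm_num : (13 : ℕ).Prime) hy M hinv
    rw [show {e | e ∈ M ∧ Commute y e} = ∅ from Set.eq_empty_iff_forall_notMem.2
      fun e he => thirteen_moves S hF hM hy hy1 he.1.1 he.2, Set.ncard_empty, Nat.modEq_zero_iff_dvd] at h
    exact h
  have h702 : M.ncard = 702 := by omega
  have h := count_pairs (s := M) (t := {t | orderOf t = 2 ∧ Commute z t}) (fun d t => d ∈ triSet D t)
    (m := 1) (n := 6) (fun d hd => ?_) (fun t ht => ?_)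
  · omega
  · rw [Set.ncard_eq_one]
    set d' := z * d * z⁻¹ with hd'
    set d'' := z * z * d * (z * z)⁻¹ with hd''
    have e2 : z * d' * z⁻¹ = d'' := by rw [hd', hd'']; group
    have e3 : z * d'' * z⁻¹ = d := by
      calc z * d'' * z⁻¹ = z ^ 3 * d * (z ^ 3)⁻¹ := by rw [hd'', pow_succ, pow_two]; group
        _ = d := by rw [hz]; group
    have l12 : d' ∈ link D d := hd.2
    have l23 : d'' ∈ link D d' := by
      have := link_conj S.tt z l12
      rwa [e2] at this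
    have l31 : d ∈ link D d'' := by
      have := link_conj S.tt z l23
      rwa [e3, e2] at this
    have T : Tri D d d' d'' := ⟨hd.1, l12.1, l23.1, l12.2.1.symm, l31.2.1, l23.2.1.symm, l12.2.2, l31.2.2.symm,
      l23.2.2⟩
    refine ⟨d * d' * d'', Set.ext fun t => ⟨fun ⟨⟨_, hzt⟩, hdt⟩ => ?_, ?_⟩⟩
    · exact (triSet_cycle S hF hM hz hzt hnf hdt).symm
    · rintro rfl
      refine ⟨⟨orderOf_eq_prime (by rw [pow_two]; exact T.sq S) (tri_notMem S hF hM T).1, ?_⟩,
        hd.1, d', d'', T, rfl⟩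
      have hinv : z * (d * d' * d'') * z⁻¹ = d * d' * d'' := by
        calc z * (d * d' * d'') * z⁻¹ = z * d * z⁻¹ * (z * d' * z⁻¹) * (z * d'' * z⁻¹) := by group
          _ = d * d' * d'' := by rw [e2, e3]; exact T.prod_rot
      exact mul_inv_eq_iff_eq_mul.1 hinv
  · obtain ⟨a, b, c, T, rfl⟩ := tri_of_invol S hF hM hz hnf ht.1 ht.2
    rw [← triSet_ncard S hF hM T]
    congr 1
    ext x
    refine ⟨fun hx => hx.2, fun hx => ⟨⟨hx.1, S.tt.conj z x hx.1, fun e => hnf x hx.1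
      (mul_inv_eq_iff_eq_mul.1 e), triSet_pairwise S hF hM hx (triSet_conj S ht.2 hx)⟩, hx⟩⟩

end CfsgLib.M22Sylow
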