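import Cfsg.Agent.Lib.ThreeTransp.M22Sylow.Thirteen.Inverter
import Cfsg.Agent.Lib.ThreeTransp.M22Sylow.Thirteen.Count

/-!
# The centraliser of an element of order thirteen does not have order `39`

Otherwise the centraliser `R` of an element of order three in it would be a `{2, 3, 13}`-group with exactly
`117` involutions.
-/

set_option autoImplicit false

namespace CfsgLib.M22Sylow

open CfsgLib.ThreeTransp CfsgLib.M22
open CfsgLib.PSUAut CfsgLib.U6

variable {G : Type*} [Group G] [Finite G] {D : Set G} (S : Setup D) {F : Type} [Field F] [Fintype F]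
  (hF : Fintype.card F = 2 ^ 2) (hM : ∀ a ∈ D, Nonempty (Model D a F))
include S hF hM

variable {y z : G} (hy : y ^ 13 = 1) (hy1 : y ≠ 1) (hz : z ^ 3 = 1) (hz1 : z ≠ 1) (hzy : Commute y z)
include hy hy1 hz hz1 hzy

theorem cent_three_prime {p : ℕ} (hp : p = 5 ∨ p = 7 ∨ p = 11) {u : G} (hu : u ^ p = 1) (hu1 : u ≠ 1) :
    ¬ Commute z u := by
  intro hc
  have hnf : ∀ e ∈ D, ¬ Commute z e := fun e he => no_fixed S hF hM hy hy1 hz1 hzy he
  have hmod : (fixSet D u).ncard ≡ 0 [MOD 3] := by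
    have h := Loc.fix_modEq Nat.prime_three hz (fixSet D u) fun e he => fixSet_conj S hc.symm he
    rwa [show {e | e ∈ fixSet D u ∧ Commute z e} = ∅ from Set.eq_empty_iff_forall_notMem.2
      fun e he => hnf e he.1.1 he.2, Set.ncard_empty] at h
  rcases hp with rfl | rfl | rfl
  · obtain ⟨d, hd⟩ := five_has_fixed S hF hM hu hu1
    rw [five_ten S hF hM hd hu hu1] at hmod
    norm_num [Nat.ModEq] at hmod
  · obtain ⟨a, b, ha, hb, hne, hT, h3⟩ := seven_fixSet S hF hM hu hu1
    obtain ⟨w, hw⟩ : ∃ w, z * a * z⁻¹ = w := ⟨_, rfl⟩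
    have hwT : w ∈ fixSet D u := hw ▸ fixSet_conj S hc.symm ha
    have haw : a ≠ w := fun e => hnf a ha.1 (mul_inv_eq_iff_eq_mul.1 (hw.trans e.symm))
    have hnc := seven_pair S hF hM hu hu1 ha hwT haw
    have hb1 := S.tt.braid ha.1 hwT.1 hnc
    have hawa : a * w * a ∈ fixSet D u := by
      have := fixSet_conj S ha.2 hwT
      rwa [S.tt.inv_eq ha.1] at this
    have h1 : a * w * a ≠ a := fun e => hnc (e ▸ S.tt.cj_conj_self ha.1 hwT.1 hnc |> fun h => by
      rw [S.sqd ha.1, one_mul] at h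
      exact h ▸ Commute.refl a)
    have h2 : a * w * a ≠ w := fun e => S.tt.not_commute_cj_right ha.1 hwT.1 hnc (by rw [e])
    have h3set : ({a, w, a * w * a} : Set G) = fixSet D u := by
      refine Set.eq_of_subset_of_ncard_le ?_ ?_ (Set.toFinite _)
      · rintro v (rfl | rfl | rfl) <;> assumption
      · rw [h3, Set.ncard_eq_three.2 ⟨a, w, a * w * a, haw, h1.symm, h2.symm, rfl⟩]
    have hzz : z * z * z = 1 := by rw [← pow_two, ← pow_succ, hz]
    have hzw : z * w * z⁻¹ = a * w * a := by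
      have hm : z * w * z⁻¹ ∈ fixSet D u := fixSet_conj S hc.symm hwT
      rw [← h3set] at hm
      rcases hm with e | e | e
      · refine absurd ?_ (hnf a ha.1)
        have e' : z * z * a * (z * z)⁻¹ = a := by
          rw [← hw] at e
          rw [show z * z * a * (z * z)⁻¹ = z * (z * a * z⁻¹) * z⁻¹ by group]
          exact e
        have h := (show Commute (z * z) a from mul_inv_eq_iff_eq_mul.1 e').mul_left
          (show Commute (z * z) a from mul_inv_eq_iff_eq_mul.1 e')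
        rwa [← mul_assoc, hzz, one_mul] at h
      · exact absurd (mul_inv_eq_iff_eq_mul.1 e) (hnf w hwT.1)
      · exact e
    have hzaw : Commute z (a * w) := by
      refine mul_inv_eq_iff_eq_mul.1 ?_
      calc z * (a * w) * z⁻¹ = z * a * z⁻¹ * (z * w * z⁻¹) := by group
        _ = (w * a * w) * a := by rw [hw, hzw]; group
        _ = a * w * a * a := by rw [hb1]
        _ = a * w := by rw [mul_assoc (a * w), S.sqd ha.1, mul_one]
    have haw3 : (a * w) ^ 3 = 1 := pow_three_eq_one (S.sqd ha.1) (S.sqd hwT.1) hb1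
    obtain ⟨g, hg⟩ : ∃ g, (a * w)⁻¹ * z = g := ⟨_, rfl⟩
    have hg3 : g ^ 3 = 1 := by
      rw [← hg, hzaw.symm.inv_left.mul_pow, inv_pow, haw3, hz, inv_one, mul_one]
    have hga : Commute g a := by
      refine mul_inv_eq_iff_eq_mul.1 ?_
      calc g * a * g⁻¹ = (a * w)⁻¹ * (z * a * z⁻¹) * (a * w) := by rw [← hg]; group
        _ = (w * a) * w * (a * w) := by rw [hw, mul_inv_rev, S.tt.inv_eq ha.1, S.tt.inv_eq hwT.1]
        _ = a * w * a * (a * w) := by rw [← hb1]
        _ = a := by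
          rw [mul_assoc (a * w), ← mul_assoc a a, S.sqd ha.1, one_mul, mul_assoc, S.sqd hwT.1, mul_one]
    have hgu : Commute u g := hg ▸ ((ha.2.mul_right hwT.2).inv_right.mul_right hc.symm)
    have h14 := seven_cent S hF hM ha.1 hu hu1 ha.2.symm
    have hdvd := Subgroup.orderOf_mk g (Subgroup.mem_inf.2 ⟨Subgroup.mem_centralizer_singleton_iff.2 hga.eq,
      Subgroup.mem_centralizer_singleton_iff.2 hgu.symm.eq⟩ :
      g ∈ Subgroup.centralizer ({a} : Set G) ⊓ Subgroup.centralizer ({u} : Set G)) ▸ orderOf_dvd_natCard _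
    rw [h14] at hdvd
    have hg1 : g = 1 := by
      rw [← orderOf_eq_one_iff]
      exact Nat.eq_one_of_dvd_coprimes (by norm_num : Nat.Coprime 14 3) hdvd (orderOf_dvd_of_pow_eq_one hg3)
    rw [hg1, inv_mul_eq_one] at hg
    exact not_product S hF hM hy hy1 hz hz1 hzy a ha.1 w hwT.1 hg
  · obtain ⟨d, -, hd⟩ := eleven_fixSet S hF hM hu hu1
    rw [hd, Set.ncard_singleton] at hmod
    norm_num [Nat.ModEq] at hmod

theorem card_cent_three :
    Nat.card ↥(Subgroup.centralizer ({z} : Set G)) ∣ 2 ^ 17 * 3 ^ 9 * 13 := by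
  set R := Subgroup.centralizer ({z} : Set G) with hR
  have hno : ∀ p : ℕ, p.Prime → (p = 5 ∨ p = 7 ∨ p = 11) → Nat.Coprime (Nat.card R) p := by
    intro p hp hp'
    refine (hp.coprime_iff_not_dvd.2 fun hdvd => ?_).symm
    haveI := Fact.mk hp
    obtain ⟨⟨u, hu⟩, hu'⟩ := exists_prime_orderOf_dvd_card' (G := R) p hdvd
    rw [Subgroup.orderOf_mk] at hu'
    exact cent_three_prime S hF hM hy hy1 hz hz1 hzy hp' (hu' ▸ pow_orderOf_eq_one u)
      (fun e => by rw [e, orderOf_one] at hu'; exact hp.ne_one hu'.symm)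
      (Subgroup.mem_centralizer_singleton_iff.1 hu).symm
  have hcop : Nat.Coprime (Nat.card R) (5 ^ 2 * (7 * 11)) :=
    ((hno 5 (by norm_num) (Or.inl rfl)).pow_right 2).mul_right
      ((hno 7 (by norm_num) (Or.inr (Or.inl rfl))).mul_right (hno 11 (by norm_num) (Or.inr (Or.inr rfl))))
  refine hcop.dvd_of_dvd_mul_left ?_
  have := Subgroup.card_subgroup_dvd_card R
  rw [card_eq S hF hM] at this
  exact this.trans (dvd_of_eq (by norm_num))

theorem cent_ne_39 : Nat.card ↥(Subgroup.centralizer ({y} : Set G)) ≠ 39 := by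
  classical
  intro hC39
  haveI := Fintype.ofFinite G
  haveI := Fact.mk (by norm_num : (13 : ℕ).Prime)
  haveI := Fact.mk Nat.prime_three
  obtain ⟨t, ht, htN, hty⟩ := exists_inverter S hF hM hy hy1
  have htt : t * t = 1 := by rw [← pow_two, ← ht, pow_orderOf_eq_one]
  have hnorm : Nat.card ↥(Subgroup.normalizer ((Subgroup.zpowers y : Subgroup G) : Set G)) = 78 := by
    rcases cent_norm_cases S hF hM hy hy1 with ⟨h, -⟩ | ⟨-, h⟩ | ⟨h, -⟩
    · omega
    · exact h
    · omega
  set C := Subgroup.centralizer ({y} : Set G) with hC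
  set X := Subgroup.zpowers y with hXdef
  set N := Subgroup.normalizer (X : Set G) with hN
  set Z := Subgroup.zpowers z with hZdef
  set R := Subgroup.centralizer ({z} : Set G) with hR
  have hmC : ∀ {g}, g ∈ C ↔ Commute y g := fun {g} =>
    Subgroup.mem_centralizer_singleton_iff.trans ⟨fun h => Commute.symm h, fun h => h.symm⟩
  have hmR : ∀ {g}, g ∈ R ↔ Commute z g := fun {g} =>
    Subgroup.mem_centralizer_singleton_iff.trans ⟨fun h => Commute.symm h, fun h => h.symm⟩
  have hCN : C ≤ N := (centralizer_zpowers y).symm.le.trans (Subgroup.centralizer_le_normalizer _)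
  have hX : Nat.card X = 13 := by rw [hXdef, Nat.card_zpowers, orderOf_eq_prime hy hy1]
  have hZ : Nat.card Z = 3 := by rw [hZdef, Nat.card_zpowers, orderOf_eq_prime hz hz1]
  have hXC : X ≤ C := Subgroup.zpowers_le.2 (hmC.2 (Commute.refl y))
  have hXZ : X ⊓ Z = ⊥ := (Subgroup.eq_bot_iff_card _).2 (Nat.eq_one_of_dvd_coprimes
    (by norm_num : Nat.Coprime 13 3) (hX ▸ Subgroup.card_dvd_of_le inf_le_left)
    (hZ ▸ Subgroup.card_dvd_of_le inf_le_right))
  have hCR : C ≤ R := by
    rw [← Loc.sup_eq_of_card hXC (Subgroup.zpowers_le.2 (hmC.2 hzy)) hXZ (by rw [hX, hZ, hC39])]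
    exact sup_le (Subgroup.zpowers_le.2 (hmR.2 hzy.symm)) (Subgroup.zpowers_le.2 (hmR.2 (Commute.refl z)))
  have hyR : y ∈ R := hmR.2 hzy.symm
  have hXR : X ≤ R := Subgroup.zpowers_le.2 hyR
  -- elements of the normaliser centralise or invert
  have hNcases : ∀ g ∈ N, g ∈ C ∨ g * t ∈ C := by
    intro g hg
    have hg2 : Commute y (g * g) := by
      haveI : (C.subgroupOf N).Normal := by
        refine ⟨fun c hc n => ?_⟩
        rw [Subgroup.mem_subgroupOf] at hc ⊢
        obtain ⟨k, hk⟩ := (Subgroup.mem_normalizer_iff''.1 n.2 y).1 (Subgroup.mem_zpowers y)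
        have h1 : Commute (y ^ k) (c : G) := (hmC.1 hc).zpow_left k
        rw [show y ^ k = (n : G)⁻¹ * y * n from hk] at h1
        have h2 := (Commute.conj_iff (n : G)).2 h1
        refine hmC.2 ?_
        simp only [Subgroup.coe_mul, Subgroup.coe_inv]
        rwa [show (n : G) * ((n : G)⁻¹ * y * n) * (n : G)⁻¹ = y by group] at h2
      have hidx : (C.subgroupOf N).index = 2 := by
        have h := Subgroup.index_mul_card (C.subgroupOf N)
        rw [Nat.card_congr (Subgroup.subgroupOfEquivOfLe hCN).toEquiv, hC39, hnorm] at h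
        omega
      have h := (C.subgroupOf N).pow_index_mem ⟨g, hg⟩
      rw [hidx, Subgroup.mem_subgroupOf] at h
      exact hmC.1 (by simpa [pow_two] using h)
    rcases Loc.pm_of_sq (by norm_num : (13 : ℕ).Prime) hy hy1
      ((Subgroup.mem_normalizer_iff.1 hg y).1 (Subgroup.mem_zpowers y)) hg2 with h | h
    · exact Or.inl (hmC.2 (mul_inv_eq_iff_eq_mul.1 h).symm)
    · refine Or.inr (hmC.2 (mul_inv_eq_iff_eq_mul.1 ?_ : g * t * y = y * (g * t)).symm)
      calc g * t * y * (g * t)⁻¹ = g * (t * y * t⁻¹) * g⁻¹ := by group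
        _ = (g * y * g⁻¹)⁻¹ := by rw [hty]; group
        _ = y := by rw [h, inv_inv]
  obtain ⟨I, hI⟩ : ∃ I : Set G, I = {s | orderOf s = 2 ∧ Commute z s} := ⟨_, rfl⟩
  have hI117 : I.ncard = 117 := hI ▸ invol_count S hF hM hz hy hy1 hzy hz1
  have hRdvd : Nat.card R ∣ 2 ^ 17 * 3 ^ 9 * 13 := card_cent_three S hF hM hy hy1 hz hz1 hzy
  have hR169 : ¬ 13 ^ 2 ∣ Nat.card R := fun h => by
    have := h.trans hRdvd
    norm_num at this
  -- `t` on the element of order three
  have hztz : t * z * t⁻¹ = z ∨ t * z * t⁻¹ = z⁻¹ := by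
    refine Loc.pm_of_sq Nat.prime_three hz hz1 ?_ (by rw [htt]; exact Commute.one_right z)
    have hc : Commute y (t * z * t⁻¹) := by
      have h1 : Commute (t * y * t⁻¹) (t * z * t⁻¹) := (Commute.conj_iff t).2 hzy
      rw [hty] at h1
      simpa using h1.inv_left
    have h3' : (t * z * t⁻¹) ^ 3 = 1 := by rw [conj_pow, hz, mul_one, mul_inv_cancel]
    refine Loc.mem_of_pow_eq (R := C) (K := Z) (p := 13) (n := 3) (Subgroup.zpowers_le.2 (hmC.2 hzy)) (by rw [hC39, hZ])
      (fun g hg k hk => ?_) (by norm_num) (hmC.2 hc) h3'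
    obtain ⟨i, rfl⟩ := hk
    show g * z ^ i * g⁻¹ ∈ Z
    rw [← ((hmR.1 (hCR hg)).zpow_left i).eq, mul_inv_cancel_right]
    exact Subgroup.zpow_mem_zpowers z i
  rcases hztz with htz | htz
  swap
  · -- the inverting case
    have hNC : R ⊓ N ≤ Subgroup.centralizer (X : Set G) := by
      rintro g ⟨hgR, hgN⟩
      rw [hXdef, centralizer_zpowers]
      rcases hNcases g hgN with h | h
      · exact h
      exfalso
      have htR : t ∈ R := by
        have hgR' : g ∈ R := hgR
        have := mul_mem (inv_mem hgR') (hCR h)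
        rwa [inv_mul_cancel_left] at this
      rw [show t * z * t⁻¹ = z by rw [← (hmR.1 htR).eq, mul_inv_cancel_right]] at htz
      have h2 : z * z = 1 := mul_eq_one_iff_eq_inv.2 htz
      rw [pow_succ, pow_two, h2, one_mul] at hz
      exact hz1 hz
    obtain ⟨K, hKR, hRc, hKn⟩ := exists_complement (by norm_num : (13 : ℕ).Prime) hXR hX hR169 hNC
    have hIK : ∀ s ∈ I, s ∈ K := fun s hs => by
      rw [hI] at hs
      exact Loc.mem_of_pow_eq (n := 2) hKR hRc hKn (by norm_num) (hmR.2 hs.2) (hs.1 ▸ pow_orderOf_eq_one s)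
    -- a Sylow subgroup of `K` normalised by an element of order thirteen
    haveI := Fact.mk Nat.prime_two
    haveI : (K.subgroupOf R).Normal := ⟨fun k hk g => hKn g.1 g.2 k.1 hk⟩
    obtain ⟨P⟩ := (inferInstance : Nonempty (Sylow 2 ↥(K.subgroupOf R)))
    set P0 := (P : Subgroup ↥(K.subgroupOf R)).map (K.subgroupOf R).subtype with hP0
    set Np := Subgroup.normalizer (P0 : Set R) with hNp
    have hsup : Np ⊔ K.subgroupOf R = ⊤ := Sylow.normalizer_sup_eq_top P
    have h13 : 13 ∣ Nat.card Np := by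
      have hmap : Np.map (QuotientGroup.mk' (K.subgroupOf R)) = ⊤ := by
        have := congrArg (Subgroup.map (QuotientGroup.mk' (K.subgroupOf R))) hsup
        rwa [Subgroup.map_sup, QuotientGroup.map_mk'_self, sup_bot_eq,
          Subgroup.map_top_of_surjective _ (QuotientGroup.mk'_surjective _)] at this
      have hidx : (K.subgroupOf R).index = 13 := by
        have h := Subgroup.index_mul_card (K.subgroupOf R)
        rw [Nat.card_congr (Subgroup.subgroupOfEquivOfLe hKR).toEquiv, hRc] at h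
        exact Nat.eq_of_mul_eq_mul_right Nat.card_pos h
      have := Subgroup.card_map_dvd Np (QuotientGroup.mk' (K.subgroupOf R))
      rw [hmap, Subgroup.card_top, ← Subgroup.index_eq_card, hidx] at this
      exact this
    obtain ⟨⟨⟨w, hwR⟩, hwN⟩, hw13⟩ := exists_prime_orderOf_dvd_card' (G := Np) 13 h13
    rw [Subgroup.orderOf_mk, Subgroup.orderOf_mk] at hw13
    have hw : w ^ 13 = 1 := hw13 ▸ pow_orderOf_eq_one w
    have hw1 : w ≠ 1 := fun e => by rw [e, orderOf_one] at hw13; norm_num at hw13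
    set P1 := P0.map R.subtype with hP1
    have hP1R : P1 ≤ R := Subgroup.map_subtype_le _
    have hwinv : ∀ g ∈ P1, w * g * w⁻¹ ∈ P1 := by
      rintro _ ⟨g, hg, rfl⟩
      exact ⟨⟨w, hwR⟩ * g * (⟨w, hwR⟩ : R)⁻¹, (Subgroup.mem_normalizer_iff.1 hwN g).1 hg, rfl⟩
    have hP1c : Nat.card P1 = Nat.card (P : Subgroup ↥(K.subgroupOf R)) := by
      rw [hP1, Subgroup.card_map_of_injective R.subtype_injective, hP0,
        Subgroup.card_map_of_injective (K.subgroupOf R).subtype_injective]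
    obtain ⟨v, hv⟩ : ∃ v, Nat.card P1 = 2 ^ v := by rw [hP1c]; exact IsPGroup.iff_card.1 P.isPGroup'
    have hv0 : v ≠ 0 := by
      intro h0
      obtain ⟨s, hs⟩ : I.Nonempty := Set.nonempty_of_ncard_ne_zero (by omega)
      have h2 : 2 ∣ Nat.card ↥(K.subgroupOf R) := by
        rw [Nat.card_congr (Subgroup.subgroupOfEquivOfLe hKR).toEquiv]
        have := orderOf_dvd_natCard (⟨s, hIK s hs⟩ : K)
        rw [Subgroup.orderOf_mk, (by rw [hI] at hs; exact hs.1 : orderOf s = 2)] at this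
        exact this
      have h' := P.dvd_card_of_dvd_card h2
      rw [← hP1c, hv, h0, pow_zero] at h'
      norm_num at h'
    haveI : Nontrivial P1 := Finite.one_lt_card_iff_nontrivial.1 (by rw [hv]; exact Nat.one_lt_two_pow hv0)
    have hPG : IsPGroup 2 P1 := IsPGroup.iff_card.2 ⟨v, hv⟩
    haveI := hPG.center_nontrivial
    let A : Subgroup G :=
      { carrier := {g | g ∈ P1 ∧ g * g = 1 ∧ ∀ h ∈ P1, Commute g h}
        one_mem' := ⟨one_mem _, mul_one 1, fun h _ => Commute.one_left h⟩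
        mul_mem' := fun {u u'} hu hu' => ⟨mul_mem hu.1 hu'.1, by
          rw [(hu'.2.2 u hu.1).mul_mul_mul_comm, hu.2.1, hu'.2.1, mul_one],
          fun h hh => (hu.2.2 h hh).mul_left (hu'.2.2 h hh)⟩
        inv_mem' := fun {u} hu => by rw [inv_eq_self hu.2.1]; exact hu }
    have hAP : A ≤ P1 := fun g hg => hg.1
    obtain ⟨j, -, hj⟩ := (Nat.dvd_prime_pow Nat.prime_two).1 (hv ▸ Subgroup.card_dvd_of_le hAP)
    have hj0 : j ≠ 0 := by
      intro h0
      rw [h0, pow_zero] at hj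
      have h2 : 2 ∣ Nat.card (Subgroup.center P1) := by
        obtain ⟨i, hi⟩ := IsPGroup.iff_card.1 (hPG.to_subgroup (Subgroup.center P1))
        rw [hi]
        refine dvd_pow_self 2 fun h => ?_
        rw [h, pow_zero] at hi
        exact (Finite.one_lt_card_iff_nontrivial.2 inferInstance).ne' hi
      obtain ⟨⟨⟨g, hg⟩, hgc⟩, hg2⟩ := exists_prime_orderOf_dvd_card' (G := Subgroup.center P1) 2 h2
      rw [Subgroup.orderOf_mk, Subgroup.orderOf_mk] at hg2
      have hgA : g ∈ A := ⟨hg, by rw [← pow_two, ← hg2, pow_orderOf_eq_one], fun h hh =>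
        congrArg Subtype.val (Subgroup.mem_center_iff.1 hgc ⟨h, hh⟩).symm⟩
      rw [Subgroup.eq_bot_of_card_eq A hj, Subgroup.mem_bot] at hgA
      rw [hgA, orderOf_one] at hg2
      norm_num at hg2
    have hA13 : (A : Set G).ncard ≡ 1 [MOD 13] := by
      have h := Loc.fix_modEq (by norm_num : (13 : ℕ).Prime) hw (A : Set G) fun g hg => by
        refine ⟨hwinv g hg.1, ?_, fun h hh => ?_⟩
        · calc w * g * w⁻¹ * (w * g * w⁻¹) = w * (g * g) * w⁻¹ := by group
            _ = 1 := by rw [hg.2.1]; group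
        · have hh' : w⁻¹ * h * w ∈ P1 := by
            obtain ⟨h0, hh0, rfl⟩ := hh
            exact ⟨(⟨w, hwR⟩ : R)⁻¹ * h0 * ⟨w, hwR⟩, (Subgroup.mem_normalizer_iff''.1 hwN h0).1 hh0, rfl⟩
          have := (Commute.conj_iff w).2 (hg.2.2 _ hh')
          rwa [show w * (w⁻¹ * h * w) * w⁻¹ = h by group] at this
      rwa [show {e | e ∈ (A : Set G) ∧ Commute w e} = {1} from Set.eq_singleton_iff_unique_mem.2
        ⟨⟨one_mem A, Commute.one_right w⟩, fun e he => by
          by_contra hne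
          exact no_involution S hF hM hw hw1 (orderOf_eq_prime (by rw [pow_two]; exact he.1.2.1) hne) he.2⟩,
        Set.ncard_singleton] at h
    have hAle : (A : Set G).ncard ≤ 118 := by
      refine (Set.ncard_le_ncard (t := insert 1 I) ?_ (Set.toFinite _)).trans
        ((Set.ncard_insert_le _ _).trans (by omega))
      intro g hg
      by_cases h1 : g = 1
      · exact Or.inl h1
      · refine Or.inr ?_
        rw [hI]
        exact ⟨orderOf_eq_prime (by rw [pow_two]; exact hg.2.1) h1, hmR.1 (hP1R hg.1)⟩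
    rw [← Nat.card_coe_set_eq, SetLike.coe_sort_coe, hj] at hA13 hAle
    have hj6 : j ≤ 6 := by
      by_contra hgt
      have := Nat.pow_le_pow_right (show 0 < 2 by norm_num) (show 7 ≤ j by omega)
      omega
    unfold Nat.ModEq at hA13
    interval_cases j <;> omega
  -- the centralising case
  have htR : t ∈ R := hmR.2 (mul_inv_eq_iff_eq_mul.1 htz).symm
  have hNR : N ≤ R := fun g hg => by
    rcases hNcases g hg with h | h
    · exact hCR h
    · have := mul_mem (hCR h) (inv_mem htR)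
      rwa [mul_inv_cancel_right] at this
  obtain ⟨m, hm, hm1, hmel⟩ := Loc.sylow_elements (by norm_num : (13 : ℕ).Prime) hXR hX hR169
  rw [← hN, inf_eq_right.2 hNR, hnorm] at hm
  set Ω := {e | e ∈ R ∧ e ^ 13 = 1 ∧ e ≠ 1} with hΩ
  -- double counting
  have hcount : Ω.ncard * 13 ≤ I.ncard * 116 := by
    rw [Set.ncard_eq_toFinset_card', Set.ncard_eq_toFinset_card']
    refine Finset.card_mul_le_card_mul (fun e s => s * e * s⁻¹ = e⁻¹) (fun e he => ?_) fun s hs => ?_
    · rw [Set.mem_toFinset] at he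
      obtain ⟨heR, he13, he1⟩ := he
      obtain ⟨g, hg, hgX⟩ := Loc.conj_of_card (by norm_num : (13 : ℕ).Prime) hXR
        (Subgroup.zpowers_le.2 heR) hX (by rw [Nat.card_zpowers, orderOf_eq_prime he13 he1]) hR169
      obtain ⟨x, hx, hxe⟩ : e ∈ X.map (MulAut.conj g).toMonoidHom := hgX ▸ Subgroup.mem_zpowers e
      obtain ⟨i, rfl⟩ := hx
      have hxe' : g * y ^ i * g⁻¹ = e := hxe
      obtain ⟨s, hs⟩ : ∃ s, g * t * g⁻¹ = s := ⟨_, rfl⟩
      have hse : s * e * s⁻¹ = e⁻¹ := by
        calc s * e * s⁻¹ = g * (t * y * t⁻¹) ^ i * g⁻¹ := by rw [← hs, ← hxe', conj_zpow]; group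
          _ = e⁻¹ := by rw [hty, ← hxe', inv_zpow]; group
      have hss : s * s = 1 := by
        calc s * s = g * (t * t) * g⁻¹ := by rw [← hs]; group
          _ = 1 := by rw [htt]; group
      have hzs : Commute z s := hs ▸ (((hmR.1 hg).mul_right (hmR.1 htR)).mul_right (hmR.1 hg).inv_right)
      have hsj : ∀ j : ℕ, s * e ^ j * s⁻¹ = (e ^ j)⁻¹ := fun j => by rw [← conj_pow, hse, inv_pow]
      rw [← Finset.card_range 13]
      refine Finset.card_le_card_of_injOn (fun j => e ^ j * s) (fun j hj => ?_) ?_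
      · simp only [Finset.coe_range, Set.mem_Iio] at hj
        simp only [Finset.bipartiteAbove, Finset.coe_filter, Set.mem_setOf_eq, Set.mem_toFinset, hI]
        refine ⟨⟨orderOf_eq_prime ?_ ?_, ((hmR.1 heR).pow_right j).mul_right hzs⟩, ?_⟩
        · calc (e ^ j * s) ^ 2 = e ^ j * (s * e ^ j * s⁻¹) * (s * s) := by rw [pow_two]; group
            _ = 1 := by rw [hsj, hss, mul_one, mul_inv_cancel]
        · intro h
          rw [mul_eq_one_iff_inv_eq] at h
          have : Commute s e := h ▸ ((Commute.refl e).pow_left j).inv_left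
          rw [this.eq, mul_inv_cancel_right] at hse
          have h2 : e ^ 2 = 1 := by
            rw [pow_two]; exact mul_eq_one_iff_eq_inv.2 hse
          have := orderOf_dvd_of_pow_eq_one h2
          rw [orderOf_eq_prime he13 he1] at this
          norm_num at this
        · calc e ^ j * s * e * (e ^ j * s)⁻¹ = e ^ j * (s * e * s⁻¹) * (e ^ j)⁻¹ := by group
            _ = e⁻¹ := by rw [hse, ((Commute.refl e).pow_left j).inv_right.eq, mul_inv_cancel_right]
      · intro i hi j hj h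
        simp only [Finset.coe_range, Set.mem_Iio] at hi hj
        exact pow_injOn_Iio_orderOf (show i ∈ Set.Iio (orderOf e) by rw [Set.mem_Iio, orderOf_eq_prime he13 he1]; exact hi)
          (show j ∈ Set.Iio (orderOf e) by rw [Set.mem_Iio, orderOf_eq_prime he13 he1]; exact hj) (mul_right_cancel h)
    · rw [Set.mem_toFinset] at hs
      have hle : (I.toFinset.erase s).card = 116 := by
        rw [Finset.card_erase_of_mem (Set.mem_toFinset.2 hs), ← Set.ncard_eq_toFinset_card', hI117]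
      rw [← hle]
      refine Finset.card_le_card_of_injOn (fun e => s * e) (fun e he => ?_) fun e _ e' _ h => mul_left_cancel h
      simp only [Finset.bipartiteBelow, Finset.coe_filter, Set.mem_setOf_eq, Set.mem_toFinset] at he
      obtain ⟨⟨heR, he13, he1⟩, hse⟩ := he
      simp only [Finset.coe_erase, Set.coe_toFinset, Set.mem_diff, Set.mem_singleton_iff]
      refine ⟨?_, fun h => he1 (mul_eq_left.1 h)⟩
      rw [hI] at hs ⊢
      have hss : s * s = 1 := by rw [← pow_two, ← hs.1, pow_orderOf_eq_one]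
      refine ⟨orderOf_eq_prime ?_ ?_, hs.2.mul_right (hmR.1 heR)⟩
      · rw [inv_eq_self hss] at hse
        calc (s * e) ^ 2 = s * e * s * e := by rw [pow_two]; group
          _ = 1 := by rw [hse, inv_mul_cancel]
      · intro h
        rw [mul_eq_one_iff_inv_eq, inv_eq_self hss] at h
        have := hs.1
        rw [h, orderOf_eq_prime he13 he1] at this
        norm_num at this
  have hm87 : m ≤ 87 := by
    rw [hI117] at hcount
    omega
  have hm' : m = 1 ∨ m = 27 := by
    rw [hm] at hRdvd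
    unfold Nat.ModEq at hm1
    interval_cases m <;> first | omega | (norm_num at hRdvd)
  rcases hm' with rfl | rfl
  · have hsub : I ⊆ (R : Set G) := fun s hs => by
      rw [hI] at hs
      exact hmR.2 hs.2
    have := Set.ncard_le_ncard hsub (Set.toFinite _)
    rw [hI117, ← Nat.card_coe_set_eq, SetLike.coe_sort_coe, hm] at this
    omega
  -- `|R| = 2106`
  have h2R : ¬ 2 ^ 2 ∣ Nat.card R := by rw [hm]; norm_num
  set T2 := Subgroup.zpowers t with hT2
  have hT2c : Nat.card T2 = 2 := by rw [hT2, Nat.card_zpowers, ht]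
  have hT2mem : ∀ x ∈ T2, x = 1 ∨ x = t := by
    intro x hx
    obtain ⟨k, rfl⟩ := hx
    have h2 : t ^ (2 : ℤ) = 1 := by rw [zpow_two]; exact htt
    obtain ⟨q, rfl | rfl⟩ := Int.even_or_odd' k
    · left; simp only [zpow_mul, h2, one_zpow]
    · right; simp only [zpow_add, zpow_mul, h2, one_zpow, one_mul, zpow_one]
  have hU : Nat.card ↥(R ⊓ Subgroup.centralizer ({t} : Set G)) = 18 := by
    have h := Loc.card_eq_mul R t I (fun g hg => ?_) fun s hs => ?_
    · rw [hm, hI117] at h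
      omega
    · rw [hI]
      refine ⟨?_, ((hmR.1 hg).mul_right (hmR.1 htR)).mul_right (hmR.1 hg).inv_right⟩
      rw [show g * t * g⁻¹ = MulAut.conj g t from rfl, MulEquiv.orderOf_eq, ht]
    · rw [hI] at hs
      obtain ⟨g, hg, hgT⟩ := Loc.conj_of_card Nat.prime_two (Subgroup.zpowers_le.2 htR)
        (Subgroup.zpowers_le.2 (hmR.2 hs.2)) hT2c (by rw [Nat.card_zpowers, hs.1]) h2R
      obtain ⟨x, hx, hxs⟩ : s ∈ T2.map (MulAut.conj g).toMonoidHom := hgT ▸ Subgroup.mem_zpowers s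
      refine ⟨g, hg, ?_⟩
      rcases hT2mem x hx with rfl | rfl
      · rw [map_one] at hxs
        have h2 : orderOf s = 2 := hs.1
        rw [← hxs, orderOf_one] at h2
        norm_num at h2
      · exact hxs
  obtain ⟨R1, hR1R, hR1c, hR1n⟩ := exists_complement Nat.prime_two (R := R) (X := T2)
    (Subgroup.zpowers_le.2 htR) hT2c h2R fun g hg => by
      obtain ⟨-, hg⟩ := Subgroup.mem_inf.1 hg
      rw [hT2, Loc.mem_centralizer_zpowers]
      rcases hT2mem _ ((Subgroup.mem_normalizer_iff.1 hg t).1 (Subgroup.mem_zpowers t)) with h | h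
      · have : t = 1 := conj_eq_one_iff.1 h
        rw [this, orderOf_one] at ht
        norm_num at ht
      · exact (mul_inv_eq_iff_eq_mul.1 h).symm
  have hR1 : Nat.card R1 = 1053 := by omega
  have hodd : ∀ {g n}, g ∈ R → g ^ n = 1 → Nat.Coprime 2 n → g ∈ R1 := fun hg hgn hn =>
    Loc.mem_of_pow_eq hR1R hR1c hR1n hn hg hgn
  have hCR1 : C ≤ R1 := fun g hg => hodd (hCR hg)
    (hC39 ▸ congrArg Subtype.val (pow_card_eq_one' (x := (⟨g, hg⟩ : C)))) (by norm_num)
  have htR1 : t ∉ R1 := fun h => by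
    have := orderOf_dvd_natCard (⟨t, h⟩ : R1)
    rw [Subgroup.orderOf_mk, ht, hR1] at this
    norm_num at this
  obtain ⟨Q, hQR1, hQc, hQn⟩ := exists_complement (by norm_num : (13 : ℕ).Prime) (hXC.trans hCR1) hX
    (by rw [hR1]; norm_num) fun g hg => by
      obtain ⟨hgR, hgN⟩ := Subgroup.mem_inf.1 hg
      rw [hXdef, centralizer_zpowers]
      rcases hNcases g hgN with h | h
      · exact h
      · refine absurd ?_ htR1
        have := mul_mem (inv_mem hgR) (hCR1 h)
        rwa [inv_mul_cancel_left] at this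
  have hQ81 : Nat.card Q = 81 := by omega
  have hQpow : ∀ g ∈ Q, g ^ 81 = 1 := fun g hg =>
    hQ81 ▸ congrArg Subtype.val (pow_card_eq_one' (x := (⟨g, hg⟩ : Q)))
  have hinQ : ∀ {g}, g ∈ R → g ^ 81 = 1 → g ∈ Q := fun {g} hg h81 =>
    Loc.mem_of_pow_eq hQR1 hQc hQn (by norm_num) (hodd hg h81 (by norm_num)) h81
  set W := Q ⊓ Subgroup.centralizer ({t} : Set G) with hWdef
  have hW : Nat.card W = 9 := by
    obtain ⟨P, hP⟩ := Sylow.exists_subgroup_card_pow_prime 3 (G := ↥(R ⊓ Subgroup.centralizer ({t} : Set G))) (n := 2)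
      (by rw [hU]; norm_num)
    have hle : P.map (R ⊓ Subgroup.centralizer ({t} : Set G)).subtype ≤ W := by
      rintro _ ⟨g, hg, rfl⟩
      obtain ⟨h1, h2⟩ := Subgroup.mem_inf.1 g.2
      refine Subgroup.mem_inf.2 ⟨hinQ h1 ?_, h2⟩
      have h9 : g ^ 9 = 1 := by
        have := congrArg Subtype.val (pow_card_eq_one' (x := (⟨g, hg⟩ : P)))
        rw [hP] at this
        simpa using this
      rw [show (81 : ℕ) = 9 * 9 by norm_num, pow_mul]
      show ((g : G) ^ 9) ^ 9 = 1
      rw [← SubmonoidClass.coe_pow, h9, OneMemClass.coe_one, one_pow]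
    have h1 := Subgroup.card_dvd_of_le hle
    rw [Subgroup.card_map_of_injective (Subgroup.subtype_injective _), hP] at h1
    have h2 : Nat.card W ∣ 81 := hQ81 ▸ Subgroup.card_dvd_of_le inf_le_left
    have h3 : Nat.card W ∣ 18 := hU ▸ Subgroup.card_dvd_of_le (show W ≤ R ⊓ Subgroup.centralizer ({t} : Set G) from
      le_inf ((inf_le_left).trans (hQR1.trans hR1R)) inf_le_right)
    exact Nat.dvd_antisymm ((Nat.dvd_gcd h2 h3).trans (by norm_num)) h1
  have hZQ : Z ≤ Q := Subgroup.zpowers_le.2 (hinQ (hmR.2 (Commute.refl z))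
    (by rw [show 81 = 3 * 27 by norm_num, pow_mul, hz, one_pow]))
  have hZt : ∀ g ∈ Z, Commute t g := fun g hg => by
    obtain ⟨i, rfl⟩ := hg
    exact ((hmR.1 htR).zpow_left i).symm
  have hQC : ∀ g ∈ Q, Commute y g → g ∈ Z := by
    intro g hg hgy
    have heq : Z = C ⊓ Q := Subgroup.eq_of_le_of_card_ge (le_inf (Subgroup.zpowers_le.2 (hmC.2 hzy)) hZQ) (by
      rw [hZ]
      exact Nat.le_of_dvd (by norm_num) ((Nat.dvd_gcd (hC39 ▸ Subgroup.card_dvd_of_le inf_le_left)
        (hQ81 ▸ Subgroup.card_dvd_of_le inf_le_right)).trans (by norm_num)))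
    rw [heq]
    exact Subgroup.mem_inf.2 ⟨hmC.2 hgy, hg⟩
  have hyQ : ∀ k : ℕ, ∀ g ∈ Q, y ^ k * g * (y ^ k)⁻¹ ∈ Q := fun k g hg =>
    hQn _ (pow_mem (hXC.trans hCR1 (Subgroup.mem_zpowers y)) k) g hg
  have hyZ : ∀ k : ℕ, ∀ g ∈ Z, y ^ k * g * (y ^ k)⁻¹ = g := fun k g hg => by
    obtain ⟨i, rfl⟩ := hg
    show y ^ k * z ^ i * (y ^ k)⁻¹ = z ^ i
    rw [((hzy.pow_left k).zpow_right i).eq, mul_inv_cancel_right]
  -- the conjugates of `W` meet in `Z`
  have hmeet : ∀ k : ℕ, ¬ 13 ∣ k → ∀ w ∈ W, y ^ k * w * (y ^ k)⁻¹ ∈ W → w ∈ Z := by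
    intro k hk w hw hw'
    by_contra hwZ
    set W' := W ⊓ W.comap (MulAut.conj (y ^ k)).toMonoidHom with hW'
    have hZW : Z ≤ W' := fun g hg => by
      have hgW : g ∈ W := Subgroup.mem_inf.2 ⟨hZQ hg, Subgroup.mem_centralizer_singleton_iff.2 (hZt g hg).symm.eq⟩
      refine Subgroup.mem_inf.2 ⟨hgW, ?_⟩
      show y ^ k * g * (y ^ k)⁻¹ ∈ W
      rw [hyZ k g hg]; exact hgW
    have hlt : Z < W' := lt_of_le_of_ne hZW fun e => hwZ (e ▸ Subgroup.mem_inf.2 ⟨hw, hw'⟩)
    have h9 : W' = W := by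
      refine Subgroup.eq_of_le_of_card_ge inf_le_left ?_
      have hd : Nat.card W' ∣ 9 := hW ▸ Subgroup.card_dvd_of_le inf_le_left
      have hgt : 3 < Nat.card W' := by
        by_contra hle
        exact hlt.ne (Subgroup.eq_of_le_of_card_ge hZW (by rw [hZ]; omega))
      have hle := Nat.le_of_dvd (by norm_num) hd
      rw [hW]
      interval_cases hc : Nat.card W' <;> first | omega | (norm_num at hd)
    have hinv : ∀ g ∈ (W : Set G), y ^ k * g * (y ^ k)⁻¹ ∈ (W : Set G) := fun g hg => by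
      have hg' : g ∈ W' := h9.symm ▸ (show g ∈ W from hg)
      exact (Subgroup.mem_inf.1 hg').2
    have hk13 : (y ^ k) ^ 13 = 1 := by rw [← pow_mul, mul_comm, pow_mul, hy, one_pow]
    have hcm := fixed_of_ncard_lt (by norm_num : (13 : ℕ).Prime) hk13 (W : Set G) hinv
      (by rw [← Nat.card_coe_set_eq, SetLike.coe_sort_coe, hW]; norm_num) (show w ∈ (W : Set G) from hw)
    refine hwZ (hQC w (Subgroup.mem_inf.1 hw).1 ?_)
    obtain ⟨l, hl⟩ := exists_pow_eq_self_of_coprime (x := y) (n := k)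
      (by rw [orderOf_eq_prime hy hy1]; exact ((by norm_num : (13 : ℕ).Prime).coprime_iff_not_dvd.2 hk).symm)
    rw [← hl]
    exact hcm.pow_left l
  have hcover : ∀ g ∈ Q, g ∉ Z → ∃ k : ℕ, k < 13 ∧ ∃ w ∈ W, y ^ k * w * (y ^ k)⁻¹ = g := by
    intro g hg hgZ
    let f : ℕ × G → G := fun p => y ^ p.1 * p.2 * (y ^ p.1)⁻¹
    have hWZ : ((W : Set G) \ (Z : Set G)).ncard = 6 := by
      rw [Set.ncard_sdiff (fun x hx => Subgroup.mem_inf.2 ⟨hZQ hx,
        Subgroup.mem_centralizer_singleton_iff.2 (hZt x hx).symm.eq⟩),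
        ← Nat.card_coe_set_eq, ← Nat.card_coe_set_eq, SetLike.coe_sort_coe, SetLike.coe_sort_coe, hW, hZ]
    have hQZ : ((Q : Set G) \ (Z : Set G)).ncard = 78 := by
      rw [Set.ncard_sdiff hZQ, ← Nat.card_coe_set_eq, ← Nat.card_coe_set_eq, SetLike.coe_sort_coe,
        SetLike.coe_sort_coe, hQ81, hZ]
    have hmaps : ∀ p ∈ Set.Iio 13 ×ˢ ((W : Set G) \ (Z : Set G)), f p ∈ (Q : Set G) \ (Z : Set G) := by
      rintro ⟨k, w⟩ ⟨-, hw, hwZ⟩
      refine ⟨hyQ k w (Subgroup.mem_inf.1 hw).1, fun h => hwZ ?_⟩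
      have e : y ^ k * w * (y ^ k)⁻¹ = w := by
        have h1 := hyZ k _ h
        exact mul_left_cancel (mul_right_cancel h1)
      rw [← e]; exact h
    have hinj : Set.InjOn f (Set.Iio 13 ×ˢ ((W : Set G) \ (Z : Set G))) := by
      suffices ∀ i j : ℕ, i ≤ j → j < 13 → ∀ w w', w ∈ W → w ∉ Z → w' ∈ W → w' ∉ Z → f (i, w) = f (j, w') →
          (i, w) = (j, w') by
        rintro ⟨i, w⟩ ⟨hi, hw, hwZ⟩ ⟨j, w'⟩ ⟨hj, hw', hwZ'⟩ h
        rcases le_total i j with hij | hij
        · exact this i j hij hj w w' hw hwZ hw' hwZ' h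
        · exact (this j i hij hi w' w hw' hwZ' hw hwZ h.symm).symm
      intro i j hij hj w w' hw hwZ hw' hwZ' h
      obtain ⟨k, rfl⟩ := Nat.exists_eq_add_of_le hij
      have hw'' : w = y ^ k * w' * (y ^ k)⁻¹ := by
        have h' : y ^ i * w * (y ^ i)⁻¹ = y ^ i * (y ^ k * w' * (y ^ k)⁻¹) * (y ^ i)⁻¹ := by
          refine h.trans ?_
          show y ^ (i + k) * w' * (y ^ (i + k))⁻¹ = _
          rw [pow_add]; group
        exact mul_left_cancel (mul_right_cancel h')
      by_cases hk0 : k = 0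
      · subst hk0
        simp at hw''
        rw [add_zero, hw'']
      · exact absurd (hmeet k (fun hd => by have := Nat.le_of_dvd (by omega) hd; omega) w' hw' (hw'' ▸ hw)) hwZ'
    have hsurj : f '' (Set.Iio 13 ×ˢ ((W : Set G) \ (Z : Set G))) = (Q : Set G) \ (Z : Set G) := by
      refine Set.eq_of_subset_of_ncard_le (Set.image_subset_iff.2 hmaps) ?_ (Set.toFinite _)
      rw [hinj.ncard_image, Set.ncard_prod, hQZ, hWZ, ← Finset.coe_Iio, Set.ncard_coe_finset, Nat.card_Iio]
    obtain ⟨⟨k, w⟩, ⟨hk, hw, -⟩, hkw⟩ := hsurj.ge ⟨hg, hgZ⟩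
    exact ⟨k, hk, w, hw, hkw⟩
  have hfinal : Q ≤ W := by
    intro q hq
    refine Subgroup.mem_inf.2 ⟨hq, Subgroup.mem_centralizer_singleton_iff.2 ?_⟩
    have htq : t * q * t⁻¹ ∈ Q := by
      refine hinQ (mul_mem (mul_mem htR (hR1R (hQR1 hq))) (inv_mem htR)) ?_
      rw [conj_pow, hQpow q hq, mul_one, mul_inv_cancel]
    obtain ⟨v, hv⟩ : ∃ v, q⁻¹ * (t * q * t⁻¹) = v := ⟨_, rfl⟩
    have hvQ : v ∈ Q := hv ▸ mul_mem (inv_mem hq) htq
    have hvinv : t * v * t⁻¹ = v⁻¹ := by
      rw [← hv, inv_eq_self htt]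
      calc t * (q⁻¹ * (t * q * t)) * t = t * q⁻¹ * t * q * (t * t) := by group
        _ = t⁻¹ * q⁻¹ * t⁻¹ * q := by rw [htt, mul_one, inv_eq_self htt]
        _ = (q⁻¹ * (t * q * t))⁻¹ := by group
    have hv81 := hQpow v hvQ
    have hsq : Commute t v → v = 1 := fun h => by
      rw [h.eq, mul_inv_cancel_right] at hvinv
      have h2 : v ^ 2 = 1 := by rw [pow_two]; exact mul_eq_one_iff_eq_inv.2 hvinv
      rw [← orderOf_eq_one_iff]
      exact Nat.eq_one_of_dvd_coprimes (by norm_num : Nat.Coprime 2 81) (orderOf_dvd_of_pow_eq_one h2)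
        (orderOf_dvd_of_pow_eq_one hv81)
    have hv1 : v = 1 := by
      by_cases hvZ : v ∈ Z
      · exact hsq (hZt v hvZ)
      obtain ⟨k, hk, w, hw, rfl⟩ := hcover v hvQ hvZ
      rcases Nat.eq_zero_or_pos k with rfl | hk0
      · refine hsq ?_
        rw [pow_zero, one_mul, inv_one, mul_one]
        exact (Subgroup.mem_centralizer_singleton_iff.1 (Subgroup.mem_inf.1 hw).2).symm
      exfalso
      obtain ⟨v, hveq⟩ : ∃ v, y ^ k * w * (y ^ k)⁻¹ = v := ⟨_, rfl⟩
      rw [hveq] at hvinv hvQ hvZ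
      have htyk : t * (y ^ k)⁻¹ = y ^ k * t := by
        have h : t * (y ^ k)⁻¹ * t⁻¹ = y ^ k := by
          rw [← inv_pow, ← conj_pow, show t * y⁻¹ * t⁻¹ = (t * y * t⁻¹)⁻¹ by group, hty, inv_inv]
        exact mul_inv_eq_iff_eq_mul.1 h
      have hcv : Commute (y ^ k * y ^ k * t) v := by
        have h1 : Commute (y ^ k * t * (y ^ k)⁻¹) v := hveq ▸ (Commute.conj_iff (y ^ k)).2
          (Subgroup.mem_centralizer_singleton_iff.1 (Subgroup.mem_inf.1 hw).2).symm
        rwa [mul_assoc, htyk, ← mul_assoc] at h1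
      obtain ⟨u, hu⟩ : ∃ u, y ^ k * y ^ k = u := ⟨_, rfl⟩
      rw [hu] at hcv
      have hu1 : u * v⁻¹ * u⁻¹ = v := by
        calc u * v⁻¹ * u⁻¹ = u * t * v * (u * t)⁻¹ := by rw [← hvinv]; group
          _ = v := by rw [hcv.eq, mul_inv_cancel_right]
      have hu2 : Commute (u * u) v := by
        refine mul_inv_eq_iff_eq_mul.1 ?_
        calc u * u * v * (u * u)⁻¹ = u * (u * v⁻¹ * u⁻¹)⁻¹ * u⁻¹ := by group
          _ = v := by rw [hu1]; exact hu1
      obtain ⟨l, hl⟩ := exists_pow_eq_self_of_coprime (x := y) (n := 4 * k) (by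
        rw [orderOf_eq_prime hy hy1]
        refine ((by norm_num : (13 : ℕ).Prime).coprime_iff_not_dvd.2 fun hd => ?_).symm
        rcases (by norm_num : (13 : ℕ).Prime).dvd_mul.1 hd with h | h
        · norm_num at h
        · have := Nat.le_of_dvd hk0 h; omega)
      refine hvZ (hQC v hvQ ?_)
      rw [← hl, show y ^ (4 * k) = u * u by rw [← hu, ← pow_add, ← pow_add]; congr 1; omega]
      exact hu2.pow_left l
    rw [hv1, inv_mul_eq_one] at hv
    exact (mul_inv_eq_iff_eq_mul.1 hv.symm).symm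
  have := Subgroup.card_dvd_of_le hfinal
  rw [hQ81, hW] at this
  norm_num at this

end CfsgLib.M22Sylow
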