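import Cfsg.Agent.Lib.ThreeTransp.M22Sylow.Transfer

/-!
# Elements of order three in `SU₆(2)` and their isotropic eigenvectors
-/

set_option autoImplicit false

namespace CfsgLib.M22Sylow

open CfsgLib.PSUAut CfsgLib.U6
open CfsgLib.UnitarySpec (psuMk)

variable {F : Type} [Field F] [Fintype F]

local notation "V6" => Fin 6 → F
local notation "H6" => Cfsg.hermForm 6 F 2
local notation "SU6" => (Cfsg.SU 6 F 2)
local notation "PSU6" => (Cfsg.PSU 6 F 2)

/-- The eigenspace of `s` for `c`. -/
def eigSub (s : SU6) (c : F) : Submodule F V6 := LinearMap.ker (lin s - c • LinearMap.id)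

theorem mem_eigSub {s : SU6} {c : F} {y : V6} : y ∈ eigSub s c ↔ act s y = c • y := by
  rw [eigSub, LinearMap.mem_ker, LinearMap.sub_apply, LinearMap.smul_apply, LinearMap.id_apply, sub_eq_zero,
    lin_apply]

theorem eigSub_smul {s : SU6} {c : F} {y : V6} (h : y ∈ eigSub s c) : act s y = c • y := mem_eigSub.1 h

variable (hF : Fintype.card F = 2 ^ 2)
include hF

theorem omega_facts {o : F} (ho0 : o ≠ 0) (ho1 : o ≠ 1) :
    o ^ 3 = 1 ∧ o * o + o + 1 = 0 ∧ o * o ≠ 0 ∧ o * o ≠ 1 ∧ o * o ≠ o := by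
  have h3 := cube_eq_one hF ho0
  have hq : (o - 1) * (o * o + o + 1) = 0 := by linear_combination h3
  refine ⟨h3, (mul_eq_zero.1 hq).resolve_left (sub_ne_zero.2 ho1), mul_ne_zero ho0 ho0, fun h => ?_, fun h => ?_⟩
  · exact ho1 (by linear_combination h3 - o * h)
  · exact ho1 (mul_left_cancel₀ ho0 (by rw [h, mul_one]))

theorem eig_perp {s : SU6} {a b : F} (hb0 : b ≠ 0) (hab : a ≠ b) {x y : V6} (hx : x ∈ eigSub s a)
    (hy : y ∈ eigSub s b) : H6 x y = 0 := by
  have h := act_form s x y
  rw [eigSub_smul hx, eigSub_smul hy, U6.smul_left hF, U6.smul_right hF] at h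
  have hne : a * b ^ 2 - 1 ≠ 0 := fun e => hab (by
    have h3 := cube_eq_one hF hb0
    linear_combination b * e - a * h3)
  have : (a * b ^ 2 - 1) * H6 x y = 0 := by linear_combination h
  exact (mul_eq_zero.1 this).resolve_left hne

/-- The components of a vector. -/
theorem eig_decomp {s : SU6} (hs : s ^ 3 = 1) {o : F} (ho0 : o ≠ 0) (ho1 : o ≠ 1) (w : V6) :
    ∃ p q r : V6, p ∈ eigSub s 1 ∧ q ∈ eigSub s o ∧ r ∈ eigSub s (o * o) ∧ w = p + q + r := by
  obtain ⟨h3, hsum, -, -, -⟩ := omega_facts hF ho0 ho1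
  have hsss : act s (act s (act s w)) = w := by
    rw [← act_mul, ← act_mul, ← pow_two, ← pow_succ, hs, act_one]
  have h2 := add_self hF (1 : F)
  refine ⟨w + act s w + act s (act s w), w + (o * o) • act s w + o • act s (act s w),
    w + o • act s w + (o * o) • act s (act s w), mem_eigSub.2 ?_, mem_eigSub.2 ?_, mem_eigSub.2 ?_, ?_⟩
  · rw [act_add, act_add, hsss]; module
  · rw [act_add, act_add, act_smul, act_smul, hsss]
    linear_combination (norm := module) (-h3) • act s w
  · rw [act_add, act_add, act_smul, act_smul, hsss]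
    linear_combination (norm := module) (-h3) • act s w + (-(o * h3)) • act s (act s w)
  · linear_combination (norm := module) (-h2) • w + (-hsum) • (act s w + act s (act s w))

/-- An eigenspace is non-degenerate. -/
theorem eig_zero_of_perp {s : SU6} (hs : s ^ 3 = 1) {c : F} (hc : c ≠ 0) {v : V6} (hv : v ∈ eigSub s c)
    (h : ∀ w ∈ eigSub s c, H6 w v = 0) : v = 0 := by
  obtain ⟨o, ho0, ho1, -, hall⟩ := exists_omega hF
  obtain ⟨-, -, hoo0, -, -⟩ := omega_facts hF ho0 ho1
  refine form_zero_of_all hF fun w => ?_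
  obtain ⟨p, q, r, hp, hq, hr, rfl⟩ := eig_decomp hF hs ho0 ho1 w
  have k : ∀ {a : F} {x : V6}, x ∈ eigSub s a → H6 x v = 0 := fun {a x} hx => by
    by_cases ha : a = c
    · exact h x (ha ▸ hx)
    · exact eig_perp hF hc ha hx hv
  rw [U6.add_left hF, U6.add_left hF, k hp, k hq, k hr, add_zero, add_zero]

theorem eig_aniso_of_one {s : SU6} (hs : s ^ 3 = 1) {c : F} (hc : c ≠ 0)
    (h1 : Module.finrank F (eigSub s c) = 1) :
    ∃ v ∈ eigSub s c, v ≠ 0 ∧ H6 v v = 1 ∧ ∀ w ∈ eigSub s c, ∃ a : F, w = a • v := by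
  have hne : eigSub s c ≠ ⊥ := fun e => by rw [e, finrank_bot] at h1; omega
  obtain ⟨v, hv, hv0⟩ := Submodule.exists_mem_ne_zero_of_ne_bot hne
  have hsp : Submodule.span F {v} = eigSub s c := Submodule.eq_of_le_of_finrank_le
    (Submodule.span_le.2 (Set.singleton_subset_iff.2 hv)) (by rw [finrank_span_singleton hv0, h1])
  have hall : ∀ w ∈ eigSub s c, ∃ a : F, w = a • v := fun w hw => by
    rw [← hsp] at hw
    obtain ⟨a, rfl⟩ := Submodule.mem_span_singleton.1 hw
    exact ⟨a, rfl⟩
  refine ⟨v, hv, hv0, (norm_cases hF v).resolve_left fun h => hv0 (eig_zero_of_perp hF hs hc hv fun w hw => ?_), hall⟩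
  obtain ⟨a, rfl⟩ := hall w hw
  rw [U6.smul_left hF, h, mul_zero]

/-- A non-degenerate eigenspace of dimension at most three has no two orthogonal isotropic points. -/
theorem eig_no_pair {s : SU6} (hs : s ^ 3 = 1) {c : F} (hc : c ≠ 0) (h3 : Module.finrank F (eigSub s c) ≤ 3)
    {x y : V6} (hx : x ∈ eigSub s c) (hy : y ∈ eigSub s c) (hxi : Isot 2 x) (hyi : Isot 2 y)
    (hyx : y ∉ Submodule.span F {x}) : H6 x y ≠ 0 := by
  intro hxy
  obtain ⟨w₁, hw₁, hwx⟩ : ∃ w ∈ eigSub s c, H6 w x ≠ 0 := by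
    by_contra! hno
    exact hxi.1 (eig_zero_of_perp hF hs hc hx hno)
  have hperp : ∀ w ∈ Submodule.span F ({x, y} : Set V6), H6 w x = 0 := by
    intro w hw
    obtain ⟨a, b, rfl⟩ := Submodule.mem_span_pair.1 hw
    rw [U6.add_left hF, U6.smul_left hF, U6.smul_left hF, hxi.2, (comm_zero hF).1 hxy, mul_zero, mul_zero,
      add_zero]
  have hlt : Submodule.span F ({x, y} : Set V6) < Submodule.span F {x, y, w₁} := by
    refine lt_of_le_of_ne (Submodule.span_mono (by intro z hz; rcases hz with rfl | rfl <;> simp)) fun e => ?_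
    exact hwx (hperp w₁ (e ▸ Submodule.subset_span (by simp)))
  have hlt' : Submodule.span F ({x} : Set V6) < Submodule.span F {x, y} :=
    lt_of_le_of_ne (Submodule.span_mono (by simp)) fun e => hyx (e ▸ Submodule.subset_span (by simp))
  have e1 := Submodule.finrank_lt_finrank_of_lt hlt'
  have e2 := Submodule.finrank_lt_finrank_of_lt hlt
  rw [finrank_span_singleton hxi.1] at e1
  have hle : Submodule.span F {x, y, w₁} ≤ eigSub s c :=
    Submodule.span_le.2 (by rintro z (rfl | rfl | rfl) <;> assumption)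
  have hsp := Submodule.eq_of_le_of_finrank_le hle (by omega)
  set r := H6 w₁ y / H6 w₁ x with hr
  have hcomb : r ^ 2 • x + y = 0 := by
    refine eig_zero_of_perp hF hs hc (add_mem (Submodule.smul_mem _ _ hx) hy) fun w hw => ?_
    rw [← hsp] at hw
    induction hw using Submodule.span_induction with
    | mem z hz =>
      rw [U6.add_right hF, U6.smul_right hF]
      have hr4 : (r ^ 2) ^ 2 = r := by rw [← pow_mul]; exact pow_four hF r
      rcases hz with rfl | rfl | rfl
      · rw [hxi.2, hxy, mul_zero, add_zero]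
      · rw [hyi.2, (comm_zero hF).1 hxy, mul_zero, add_zero]
      · rw [hr4, hr, div_mul_cancel₀ _ hwx, add_self hF]
    | zero => exact U6.zero_left hF _
    | add u v _ _ h1 h2 => rw [U6.add_left hF, h1, h2, add_zero]
    | smul a u _ h1 => rw [U6.smul_left hF, h1, mul_zero]
  exact hyx (Submodule.mem_span_singleton.2 ⟨-(r ^ 2), by
    rw [neg_smul, neg_eq_iff_add_eq_zero]; exact hcomb⟩)

/-- A non-degenerate eigenspace of dimension at least two has an isotropic point. -/
theorem eig_exists_iso {s : SU6} {c : F} (h2 : 2 ≤ Module.finrank F (eigSub s c)) :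
    ∃ v ∈ eigSub s c, Isot 2 v := by
  have hne : eigSub s c ≠ ⊥ := fun e => by rw [e, finrank_bot] at h2; omega
  obtain ⟨x, hx, hx0⟩ := Submodule.exists_mem_ne_zero_of_ne_bot hne
  rcases norm_cases hF x with h | h
  · exact ⟨x, hx, hx0, h⟩
  obtain ⟨w, hw, hwx⟩ : ∃ w ∈ eigSub s c, w ∉ Submodule.span F {x} := by
    by_contra! hall
    have := Submodule.finrank_mono (show eigSub s c ≤ Submodule.span F {x} from hall)
    rw [finrank_span_singleton hx0] at this
    omega
  set w' := w + H6 w x • x with hw'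
  have hw'x : H6 w' x = 0 := by
    rw [hw', U6.add_left hF, U6.smul_left hF, h, mul_one, add_self hF]
  have hw'E : w' ∈ eigSub s c := add_mem hw (Submodule.smul_mem _ _ hx)
  have hw'0 : w' ≠ 0 := fun e => hwx (Submodule.mem_span_singleton.2
    ⟨-(H6 w x), by rw [neg_smul, neg_eq_iff_add_eq_zero, add_comm]; exact e⟩)
  rcases norm_cases hF w' with h' | h'
  · exact ⟨w', hw'E, hw'0, h'⟩
  · refine ⟨x + w', add_mem hx hw'E, fun e => ?_, ?_⟩
    · have : H6 (x + w') x = 0 := by rw [e, U6.zero_left hF]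
      rw [U6.add_left hF, h, hw'x, add_zero] at this
      exact one_ne_zero this
    · simp only [U6.add_left hF, U6.add_right hF, h, h', hw'x, (comm_zero hF).1 hw'x, zero_add, add_zero]
      exact add_self hF 1

theorem eig_finrank_sum {s : SU6} (hs : s ^ 3 = 1) {o : F} (ho0 : o ≠ 0) (ho1 : o ≠ 1) :
    Module.finrank F (eigSub s (1 : F)) + Module.finrank F (eigSub s o) +
      Module.finrank F (eigSub s (o * o)) = 6 := by
  obtain ⟨h3, hsum, hoo0, hoo1, hooo⟩ := omega_facts hF ho0 ho1
  have dis : ∀ {a b : F}, a ≠ b → eigSub s a ⊓ eigSub s b = ⊥ := fun {a b} hab => by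
    rw [eq_bot_iff]
    rintro v ⟨h1, h2⟩
    have : (a - b) • v = 0 := by rw [sub_smul, ← eigSub_smul h1, ← eigSub_smul h2, sub_self]
    exact (Submodule.mem_bot F).2 ((smul_eq_zero.1 this).resolve_left (sub_ne_zero.2 hab))
  have dis3 : eigSub s (1 : F) ⊓ (eigSub s o ⊔ eigSub s (o * o)) = ⊥ := by
    rw [eq_bot_iff]
    rintro v ⟨h1, h2⟩
    obtain ⟨q, hq, r, hr, rfl⟩ := Submodule.mem_sup.1 h2
    refine (Submodule.mem_bot F).2 (eig_zero_of_perp hF hs one_ne_zero h1 fun w hw => ?_)
    rw [U6.add_right hF, eig_perp hF ho0 ho1.symm hw hq, eig_perp hF hoo0 hoo1.symm hw hr, add_zero]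
  have htop : eigSub s (1 : F) ⊔ (eigSub s o ⊔ eigSub s (o * o)) = ⊤ := eq_top_iff.2 fun w _ => by
    obtain ⟨p, q, r, hp, hq, hr, rfl⟩ := eig_decomp hF hs ho0 ho1 w
    rw [add_assoc]
    exact Submodule.add_mem_sup hp (Submodule.add_mem_sup hq hr)
  have e1 := Submodule.finrank_sup_add_finrank_inf_eq (eigSub s o) (eigSub s (o * o))
  rw [dis hooo.symm, finrank_bot] at e1
  have e2 := Submodule.finrank_sup_add_finrank_inf_eq (eigSub s (1 : F)) (eigSub s o ⊔ eigSub s (o * o))
  rw [dis3, htop, finrank_bot, finrank_top, Module.finrank_fintype_fun_eq_card, Fintype.card_fin] at e2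
  omega

/-- An element with just two eigenvalues `1`, `o` is trivial when its second eigenspace has dimension at most two. -/
theorem eig_two_values {s : SU6} (hs : s ^ 3 = 1) {o : F} (ho0 : o ≠ 0) (ho1 : o ≠ 1)
    (h2 : Module.finrank F (eigSub s o) ≤ 2) (hbot : eigSub s (o * o) = ⊥) :
    Module.finrank F (eigSub s o) = 0 := by
  have hc : IsCompl (eigSub s (1 : F)) (eigSub s o) := by
    refine IsCompl.of_eq ?_ ?_
    · rw [eq_bot_iff]
      rintro v ⟨h1, hv⟩
      have : ((1 : F) - o) • v = 0 := by rw [sub_smul, ← eigSub_smul h1, ← eigSub_smul hv, sub_self]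
      exact (Submodule.mem_bot F).2 ((smul_eq_zero.1 this).resolve_left (sub_ne_zero.2 ho1.symm))
    · refine eq_top_iff.2 fun w _ => ?_
      obtain ⟨p, q, r, hp, hq, hr, rfl⟩ := eig_decomp hF hs ho0 ho1 w
      rw [hbot, Submodule.mem_bot] at hr
      rw [hr, add_zero]
      exact Submodule.add_mem_sup hp hq
  let e := Submodule.prodEquivOfIsCompl _ _ hc
  have hconj : (e.toLinearMap ∘ₗ LinearMap.prodMap LinearMap.id (o • LinearMap.id)) ∘ₗ e.symm.toLinearMap = lin s := by
    refine LinearMap.ext fun w => ?_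
    obtain ⟨p, rfl⟩ := e.surjective w
    simp only [LinearMap.comp_apply, LinearEquiv.coe_coe, e.symm_apply_apply, lin_apply]
    show e (p.1, o • p.2) = act s (e p)
    rw [Submodule.coe_prodEquivOfIsCompl', Submodule.coe_prodEquivOfIsCompl', act_add, eigSub_smul p.1.2,
      eigSub_smul p.2.2, one_smul, Submodule.coe_smul]
  have hd := det_lin s
  rw [← hconj, LinearMap.comp_assoc, LinearMap.det_conj, LinearMap.det_prodMap, LinearMap.det_id, one_mul, LinearMap.det_smul,
    LinearMap.det_id, mul_one] at hd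
  by_contra h0
  rcases (show Module.finrank F (eigSub s o) = 1 ∨ Module.finrank F (eigSub s o) = 2 by omega) with h | h
  · rw [h, pow_one] at hd; exact ho1 hd
  · rw [h, pow_two] at hd; exact (omega_facts hF ho0 ho1).2.2.2.1 hd

/-- An element with an eigenspace of dimension at least four is, up to a scalar, trivial or the product of two
non-orthogonal transvections one mapped to the other. -/
theorem eig_big {s : SU6} (hs : s ^ 3 = 1) (h4 : 4 ≤ Module.finrank F (eigSub s (1 : F))) :
    (∀ w, act s w = w) ∨ ∃ u, Isot 2 u ∧ H6 (act s u) u ≠ 0 ∧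
      ∀ (t t' : SU6), (∀ y, act t y = y + H6 y u • u) → (∀ y, act t' y = y + H6 y (act s u) • act s u) →
        t' * t = s * s := by
  obtain ⟨o, ho0, ho1, -, -⟩ := exists_omega hF
  obtain ⟨h3, hsum, hoo0, hoo1, hooo⟩ := omega_facts hF ho0 ho1
  have h6 := eig_finrank_sum hF hs ho0 ho1
  have triv : Module.finrank F (eigSub s o) = 0 → Module.finrank F (eigSub s (o * o)) = 0 → ∀ w, act s w = w := by
    intro e1 e2 w
    obtain ⟨p, q, r, hp, hq, hr, rfl⟩ := eig_decomp hF hs ho0 ho1 w
    rw [Submodule.finrank_eq_zero] at e1 e2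
    rw [e1, Submodule.mem_bot] at hq
    rw [e2, Submodule.mem_bot] at hr
    rw [hq, hr, add_zero, add_zero, eigSub_smul hp, one_smul]
  by_cases hr0 : Module.finrank F (eigSub s (o * o)) = 0
  · exact Or.inl (triv (eig_two_values hF hs ho0 ho1 (by omega) (Submodule.finrank_eq_zero.1 hr0)) hr0)
  by_cases hq0 : Module.finrank F (eigSub s o) = 0
  · have ho4 : o * o * (o * o) = o := by linear_combination o * h3
    exact absurd (eig_two_values hF hs hoo0 hoo1 (by omega) (by rw [ho4]; exact Submodule.finrank_eq_zero.1 hq0)) hr0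
  refine Or.inr ?_
  obtain ⟨a, ha, -, haa, hA⟩ := eig_aniso_of_one hF hs ho0 (show Module.finrank F (eigSub s o) = 1 by omega)
  obtain ⟨b, hb, -, hbb, hB⟩ := eig_aniso_of_one hF hs hoo0
    (show Module.finrank F (eigSub s (o * o)) = 1 by omega)
  have hab : H6 a b = 0 := eig_perp hF hoo0 hooo.symm ha hb
  have hba : H6 b a = 0 := (comm_zero hF).1 hab
  have hsu : act s (a + b) = o • a + (o * o) • b := by rw [act_add, eigSub_smul ha, eigSub_smul hb]
  have h2 := add_self hF (1 : F)
  refine ⟨a + b, ⟨fun e => ?_, ?_⟩, ?_, fun t t' ht ht' => ?_⟩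
  · have : H6 (a + b) a = 0 := by rw [e, U6.zero_left hF]
    rw [U6.add_left hF, haa, hba, add_zero] at this
    exact one_ne_zero this
  · simp only [U6.add_left hF, U6.add_right hF, haa, hbb, hab, hba, add_zero, zero_add]
    exact h2
  · rw [hsu]
    simp only [U6.add_left hF, U6.add_right hF, U6.smul_left hF, haa, hbb, hab, hba, mul_one, mul_zero, add_zero,
      zero_add]
    exact fun e => one_ne_zero (α := F) (by linear_combination hsum - e)
  · refine act_ext fun w => ?_
    obtain ⟨p, q, r, hp, hq, hr, rfl⟩ := eig_decomp hF hs ho0 ho1 w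
    obtain ⟨x, rfl⟩ := hA q hq
    obtain ⟨y, rfl⟩ := hB r hr
    have hpa : H6 p a = 0 := eig_perp hF ho0 ho1.symm hp ha
    have hpb : H6 p b = 0 := eig_perp hF hoo0 hoo1.symm hp hb
    rw [act_mul, act_mul, ht, ht', hsu]
    simp only [act_add, act_smul, eigSub_smul hp, eigSub_smul ha, eigSub_smul hb, one_smul, smul_smul,
      U6.add_left hF, U6.add_right hF, U6.smul_left hF, U6.smul_right hF, hpa, hpb, haa, hbb, hab, hba, mul_one,
      mul_zero, add_zero, zero_add]
    match_scalars
    · ring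
    · grind
    · grind

end CfsgLib.M22Sylow
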