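import Cfsg.Agent.Lib.ThreeTransp.M22Sylow.Thirteen.Cube
import Cfsg.Agent.Lib.ThreeTransp.M22Simple

/-!
# Elements of order three fixing a member

If such an element is no product of two members, its fixed members in the link of a fixed one fall into at
most three classes of pairwise non-commuting members, any two from different classes commuting.
-/

set_option autoImplicit false

namespace CfsgLib.M22Sylow

open CfsgLib.ThreeTransp CfsgLib.M22
open CfsgLib.PSUAut CfsgLib.U6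
open CfsgLib.UnitarySpec (psuMk)

variable {G : Type*} [Group G] [Finite G] {D : Set G} (S : Setup D) {F : Type} [Field F] [Fintype F]
  (hF : Fintype.card F = 2 ^ 2) (hM : ∀ a ∈ D, Nonempty (Model D a F))
include S hF hM

theorem three_lift {d z : G} (hd : d ∈ D) (A : Model D d F) (hz : z ^ 3 = 1) (hdz : Commute d z) :
    ∃ (h : z ∈ Subgroup.closure (link D d)) (s : Cfsg.SU 6 F 2), psuMk s = A.ψ ⟨z, h⟩ ∧ s ^ 3 = 1 := by
  have h := mem_closure_link S hF hM hd hdz
  obtain ⟨s, hs⟩ := QuotientGroup.mk'_surjective (Subgroup.center (Cfsg.SU 6 F 2)) (A.ψ ⟨z, h⟩)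
  have hs' : psuMk s = A.ψ ⟨z, h⟩ := hs
  have h1 : psuMk (s ^ 3) = 1 := by
    rw [map_pow, hs', ← map_pow, show (⟨z, h⟩ : ↥(Subgroup.closure (link D d))) ^ 3 = 1 from Subtype.ext hz,
      map_one]
  obtain ⟨c, -, hc⟩ := scalar_of_ker hF h1
  have hc1 : c = 1 := by
    by_contra hne
    exact no_cube_scalar hF hne hc
  exact ⟨h, s, hs', act_ext fun w => by rw [hc, hc1, one_smul, act_one]⟩

omit hM in
/-- The fixed members of a link are the eigenvectors. -/
theorem commute_iff_eigen {d z : G} (hd : d ∈ D) (A : Model D d F) {h : z ∈ Subgroup.closure (link D d)}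
    {s : Cfsg.SU 6 F 2} (hs : psuMk s = A.ψ ⟨z, h⟩) {e : G} (he : e ∈ link D d) {v : Fin 6 → F}
    (hv : IsPt (A.img he) v) : Commute z e ↔ ∃ c : F, c ≠ 0 ∧ v ∈ eigSub s c := by
  have h1 := hv.conj hF s
  rw [hs, ← A.img_conj S he ⟨z, h⟩] at h1
  constructor
  · intro hc
    have e1 : A.img (Model.conj_mem S he ⟨z, h⟩) = A.img he :=
      congrArg A.ψ (Subtype.ext (show z * e * z⁻¹ = e by rw [hc.eq, mul_inv_cancel_right]))
    rw [e1] at h1
    obtain ⟨r, hr0, hr⟩ := IsPt.span_eq hF hv h1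
    exact ⟨r, hr0, mem_eigSub.2 hr⟩
  · rintro ⟨c, hc0, hc⟩
    rw [eigSub_smul hc] at h1
    exact mul_inv_eq_iff_eq_mul.1
      (A.img_inj S hd (Model.conj_mem S he ⟨z, h⟩) he (IsPt.unique hF h1 (hv.smul hF hc0)))

/-- All eigenspaces have dimension at most three. -/
theorem eig_small {d z : G} (hd : d ∈ D) (A : Model D d F) (hz : z ^ 3 = 1) (hz1 : z ≠ 1)
    (hnp : ∀ e ∈ D, ∀ f ∈ D, e * f ≠ z) {h : z ∈ Subgroup.closure (link D d)} {s : Cfsg.SU 6 F 2}
    (hs : psuMk s = A.ψ ⟨z, h⟩) (hs3 : s ^ 3 = 1) {c : F} (hc : c ≠ 0) :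
    Module.finrank F (eigSub s c) ≤ 3 := by
  by_contra hlt
  obtain ⟨s', hs', -, hact⟩ := scalar_fix hF (Commute.refl s) (inv_ne_zero hc)
  have hci : c⁻¹ * c⁻¹ * c⁻¹ = 1 := by
    have := cube_eq_one hF (inv_ne_zero hc)
    linear_combination this
  have h3 : s' ^ 3 = 1 := by
    refine act_ext fun w => ?_
    have e : ∀ w, act s (act s (act s w)) = w := fun w => by
      rw [← act_mul, ← act_mul, ← pow_two, ← pow_succ, hs3, act_one]
    rw [pow_succ, pow_two, act_mul, act_mul, act_one, hact, hact, hact, act_smul, act_smul, act_smul,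
      smul_smul, smul_smul, e, hci, one_smul]
  have hle : eigSub s c ≤ eigSub s' (1 : F) := fun w hw => mem_eigSub.2 (by
    rw [hact, eigSub_smul hw, smul_smul, inv_mul_cancel₀ hc])
  have h4 : 4 ≤ Module.finrank F (eigSub s' (1 : F)) := by
    have := Submodule.finrank_mono hle
    omega
  have hd3 : d ^ 3 = d := by rw [pow_succ, pow_two, S.sqd hd, one_mul]
  rcases eig_big hF h3 h4 with htriv | ⟨u, hu, hne, hprod⟩
  · have hs1 : s' = 1 := act_ext fun w => by rw [htriv, act_one]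
    have hk : A.ψ ⟨z, h⟩ = 1 := by rw [← hs, ← hs', hs1, map_one]
    rcases mem_zpowers_cases S hd (ker_model S hF hM hd A hk) with e | e
    · exact hz1 e
    · rw [e, hd3] at hz
      exact S.tt.ne_one d hd hz
  · have hu' : Isot 2 (act s' u) := ⟨act_ne_zero s' hu.1, by rw [act_form]; exact hu.2⟩
    obtain ⟨X, hX⟩ := U6.exists_pt hF hu
    obtain ⟨e, le, rfl⟩ := A.exists_link_of_pt S hF hd hX
    obtain ⟨Y, hY⟩ := U6.exists_pt hF hu'
    obtain ⟨f, lf, rfl⟩ := A.exists_link_of_pt S hF hd hY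
    have hnc : ¬ Commute f e := fun hc => hne ((A.comm_iff S hF hd lf le hY hX).1 hc)
    obtain ⟨-, t, ht, htx⟩ := hX
    obtain ⟨-, t', ht', htx'⟩ := hY
    have hp := congrArg psuMk (hprod t t' ht ht')
    rw [map_mul, map_mul, htx, htx', hs', hs, ← map_mul] at hp
    have hmem : (f * e)⁻¹ * (z * z) ∈ Subgroup.closure (link D d) :=
      mul_mem (inv_mem (mul_mem (Subgroup.subset_closure lf) (Subgroup.subset_closure le))) (mul_mem h h)
    have hker : A.ψ ⟨(f * e)⁻¹ * (z * z), hmem⟩ = 1 := by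
      rw [show (⟨(f * e)⁻¹ * (z * z), hmem⟩ : ↥(Subgroup.closure (link D d))) =
        ((⟨f, Subgroup.subset_closure lf⟩ : ↥(Subgroup.closure (link D d))) * ⟨e, Subgroup.subset_closure le⟩)⁻¹ *
          (⟨z, h⟩ * ⟨z, h⟩) from rfl, map_mul A.ψ (_ : ↥(Subgroup.closure (link D d)))⁻¹ _, map_inv, map_mul, ← hp]
      exact inv_mul_cancel _
    rcases central_cases S hF hM hd A hmem hker with e1 | e1
    · refine hnp e le.1 f lf.1 ?_
      rw [inv_mul_eq_one] at e1
      have e2 : (f * e)⁻¹ = e * f := by rw [mul_inv_rev, S.tt.inv_eq le.1, S.tt.inv_eq lf.1]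
      rw [← e2, e1, inv_eq_iff_mul_eq_one, mul_assoc, ← pow_two, ← pow_succ', hz]
    · rw [inv_mul_eq_iff_eq_mul] at e1
      have hcd : Commute (f * e) d := (lf.2.2.symm.mul_left le.2.2.symm)
      have h6 : (z * z) ^ 3 = 1 := by rw [← pow_two, ← pow_mul, mul_comm, pow_mul, hz, one_pow]
      have hfe : (f * e) ^ 3 = 1 :=
        pow_three_eq_one (S.sqd lf.1) (S.sqd le.1) (S.tt.braid lf.1 le.1 hnc)
      rw [e1, hcd.mul_pow, hfe, one_mul, hd3] at h6
      exact S.tt.ne_one d hd h6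

/-- The local structure at a fixed member. -/
theorem three_local {d z : G} (hd : d ∈ fixSet D z) (hz : z ^ 3 = 1) (hz1 : z ≠ 1)
    (hnp : ∀ e ∈ D, ∀ f ∈ D, e * f ≠ z) :
    (∀ b c e, b ∈ link D d → c ∈ link D d → e ∈ link D d → Commute z b → Commute z c → Commute z e →
      ¬ Commute b c → ¬ Commute c e → b ≠ e → ¬ Commute b e) ∧
    (∃ b, b ∈ link D d ∧ Commute z b) ∧
    (∀ b, b ∈ link D d → Commute z b → ∃ c, c ∈ link D d ∩ link D b ∧ Commute z c) ∧
    ∀ f : Fin 4 → G, Function.Injective f → (∀ i, f i ∈ link D d ∧ Commute z (f i)) →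
      ∃ i j, ¬ Commute (f i) (f j) := by
  obtain ⟨A⟩ := hM d hd.1
  obtain ⟨h, s, hs, hs3⟩ := three_lift S hF hM hd.1 A hz hd.2.symm
  have hsmall : ∀ {c : F}, c ≠ 0 → Module.finrank F (eigSub s c) ≤ 3 :=
    fun hc => eig_small S hF hM hd.1 A hz hz1 hnp hs hs3 hc
  have hfix : ∀ {e : G} (he : e ∈ link D d), Commute z e →
      ∃ (v : Fin 6 → F) (c : F), IsPt (A.img he) v ∧ c ≠ 0 ∧ v ∈ eigSub s c := fun {e} he hze => by
    obtain ⟨v, hv⟩ := A.exists_pt_of_link S hF hd.1 he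
    obtain ⟨c, hc0, hc⟩ := (commute_iff_eigen S hF hd.1 A hs he hv).1 hze
    exact ⟨v, c, hv, hc0, hc⟩
  have hsame : ∀ {b e : G} (hb : b ∈ link D d) (he : e ∈ link D d) {u v : Fin 6 → F} {a c : F},
      IsPt (A.img hb) u → IsPt (A.img he) v → c ≠ 0 → u ∈ eigSub s a → v ∈ eigSub s c →
      ¬ Commute b e → a = c := fun {b e} hb he {u v a c} hu hv hc ha hv' hn => by
    by_contra hne
    exact hn ((A.comm_iff S hF hd.1 hb he hu hv).2 (eig_perp hF hc hne ha hv'))
  have hdiff : ∀ {b e : G} (hb : b ∈ link D d) (he : e ∈ link D d) {u v : Fin 6 → F} {a : F},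
      IsPt (A.img hb) u → IsPt (A.img he) v → a ≠ 0 → u ∈ eigSub s a → v ∈ eigSub s a → b ≠ e →
      ¬ Commute b e := fun {b e} hb he {u v a} hu hv ha0 ha hv' hne hc =>
    eig_no_pair hF hs3 ha0 (hsmall ha0) ha hv' hu.1 hv.1 (A.notMem S hF hd.1 hb he hu hv hne)
      ((A.comm_iff S hF hd.1 hb he hu hv).1 hc)
  have hget : ∀ {c : F}, c ≠ 0 → 2 ≤ Module.finrank F (eigSub s c) →
      ∃ (e : G) (he : e ∈ link D d) (v : Fin 6 → F), IsPt (A.img he) v ∧ v ∈ eigSub s c ∧ Commute z e := by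
    intro c hc h2
    obtain ⟨v, hv, hvi⟩ := eig_exists_iso hF h2
    obtain ⟨X, hX⟩ := U6.exists_pt hF hvi
    obtain ⟨e, le, rfl⟩ := A.exists_link_of_pt S hF hd.1 hX
    exact ⟨e, le, v, hX, hv, (commute_iff_eigen S hF hd.1 A hs le hX).2 ⟨c, hc, hv⟩⟩
  obtain ⟨o, ho0, ho1, -, hall⟩ := exists_omega hF
  obtain ⟨-, -, hoo0, hoo1, hooo⟩ := omega_facts hF ho0 ho1
  have hsum := eig_finrank_sum hF hs3 ho0 ho1
  have h1 := hsmall (c := 1) one_ne_zero
  have h2 := hsmall ho0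
  have h3 := hsmall hoo0
  refine ⟨fun b c e hb hc he zb zc ze nbc nce hne => ?_, ?_, fun b hb zb => ?_, fun f hinj hf => ?_⟩
  · obtain ⟨u, x, hu, hx, hux⟩ := hfix hb zb
    obtain ⟨v, y, hv, hy, hvy⟩ := hfix hc zc
    obtain ⟨w, k, hw, hk, hwk⟩ := hfix he ze
    have e1 := hsame hb hc hu hv hy hux hvy nbc
    have e2 := hsame hc he hv hw hk hvy hwk nce
    subst e1; subst e2
    exact hdiff hb he hu hw hx hux hwk hne
  · obtain ⟨c, hc, hc2⟩ : ∃ c : F, c ≠ 0 ∧ 2 ≤ Module.finrank F (eigSub s c) := by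
      by_cases k1 : 2 ≤ Module.finrank F (eigSub s (1 : F))
      · exact ⟨1, one_ne_zero, k1⟩
      by_cases k2 : 2 ≤ Module.finrank F (eigSub s o)
      · exact ⟨o, ho0, k2⟩
      exact ⟨o * o, hoo0, by omega⟩
    obtain ⟨e, he, -, -, -, hze⟩ := hget hc hc2
    exact ⟨e, he, hze⟩
  · obtain ⟨u, x, hu, hx, hux⟩ := hfix hb zb
    obtain ⟨c, hc, hcx, hc2⟩ : ∃ c : F, c ≠ 0 ∧ c ≠ x ∧ 2 ≤ Module.finrank F (eigSub s c) := by
      rcases hall x with e | e | e | e
      · exact absurd e hx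
      · subst e
        by_cases k2 : 2 ≤ Module.finrank F (eigSub s o)
        · exact ⟨o, ho0, ho1, k2⟩
        exact ⟨o * o, hoo0, hoo1, by omega⟩
      · subst e
        by_cases k1 : 2 ≤ Module.finrank F (eigSub s (1 : F))
        · exact ⟨1, one_ne_zero, ho1.symm, k1⟩
        exact ⟨_, hoo0, hooo, by omega⟩
      · rw [pow_two] at e; subst e
        by_cases k1 : 2 ≤ Module.finrank F (eigSub s (1 : F))
        · exact ⟨1, one_ne_zero, hoo1.symm, k1⟩
        exact ⟨o, ho0, hooo.symm, by omega⟩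
    obtain ⟨e, he, v, hv, hvc, hze⟩ := hget hc hc2
    have hcomm : Commute b e := (A.comm_iff S hF hd.1 hb he hu hv).2 (eig_perp hF hc hcx.symm hux hvc)
    refine ⟨e, ⟨he, he.1, fun heb => ?_, hcomm⟩, hze⟩
    subst heb
    obtain ⟨r, hr, rfl⟩ := IsPt.span_eq hF hu hv
    have h0 : Cfsg.hermForm 6 F 2 u u = 0 := hu.1.2
    have := eigSub_smul hvc
    rw [act_smul, eigSub_smul hux, smul_smul, smul_smul] at this
    have := smul_left_injective F hu.1.1 this
    exact hcx (mul_left_cancel₀ hr (this.trans (mul_comm c r))).symm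
  · by_contra! hall'
    choose v c hv hc hvc using fun i => hfix (hf i).1 (hf i).2
    have hcinj : Function.Injective fun i => Units.mk0 (c i) (hc i) := fun i j e => by
      by_contra hij
      have hcij : c i = c j := congrArg Units.val e
      exact hdiff (hf i).1 (hf j).1 (hv i) (hv j) (hc i) (hvc i) (hcij ▸ hvc j) (hinj.ne hij) (hall' i j)
    have := Nat.card_le_card_of_injective _ hcinj
    rw [Nat.card_fin, Nat.card_units, U6.card_field hF] at this
    omega

end CfsgLib.M22Sylow
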