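import Cfsg.Agent.Lib.ThreeTransp.M22Sylow.Transfer
import Cfsg.Agent.Lib.ThreeTransp.M22Triples
import Cfsg.Agent.Lib.ThreeTransp.M22Invol
import Cfsg.Agent.Lib.ThreeTransp.M22Base

/-!
# The members attached to an involution
-/

set_option autoImplicit false

namespace CfsgLib.M22Sylow

open CfsgLib.ThreeTransp CfsgLib.M22
open CfsgLib.PSUAut CfsgLib.U6

variable {G : Type*} [Group G] [Finite G] {D : Set G} (S : Setup D) {F : Type} [Field F] [Fintype F]
  (hF : Fintype.card F = 2 ^ 2) (hM : ∀ a ∈ D, Nonempty (Model D a F))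

/-- The members of the triples with product `t`. -/
def triSet (D : Set G) (t : G) : Set G := {x | x ∈ D ∧ ∃ y w, Tri D x y w ∧ x * y * w = t}

include S in
omit [Finite G] in
theorem tri_map {x y w : G} (T : Tri D x y w) (g : G) :
    Tri D (g * x * g⁻¹) (g * y * g⁻¹) (g * w * g⁻¹) := by
  have hinj : ∀ {u v : G}, g * u * g⁻¹ = g * v * g⁻¹ → u = v := fun h => mul_left_cancel (mul_right_cancel h)
  exact ⟨S.tt.conj g x T.ha, S.tt.conj g y T.hb, S.tt.conj g w T.hc, fun h => T.ab (hinj h),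
    fun h => T.ac (hinj h), fun h => T.bc (hinj h), (Commute.conj_iff g).2 T.cab, (Commute.conj_iff g).2 T.cac,
    (Commute.conj_iff g).2 T.cbc⟩

include S in
omit [Finite G] in
theorem triSet_conj {t g x : G} (hg : Commute g t) (hx : x ∈ triSet D t) : g * x * g⁻¹ ∈ triSet D t := by
  obtain ⟨-, y, w, T, rfl⟩ := hx
  refine ⟨S.tt.conj g x T.ha, _, _, tri_map S T g, ?_⟩
  calc g * x * g⁻¹ * (g * y * g⁻¹) * (g * w * g⁻¹) = g * (x * y * w) * g⁻¹ := by group
    _ = x * y * w := by rw [hg.eq, mul_inv_cancel_right]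

omit [Finite G] in
theorem triSet_commute {t x : G} (hx : x ∈ triSet D t) : Commute x t := by
  obtain ⟨-, y, w, T, rfl⟩ := hx
  exact ((Commute.refl x).mul_right T.cab).mul_right T.cac

include S hF hM

theorem triSet_pairwise {t x x' : G} (hx : x ∈ triSet D t) (hx' : x' ∈ triSet D t) : Commute x x' := by
  have hc := triSet_commute hx
  obtain ⟨-, y, w, T, rfl⟩ := hx'
  exact (commute_all S hF hM hx.1 T hc).1

theorem triSet_ncard {a b c : G} (T : Tri D a b c) : (triSet D (a * b * c)).ncard = 6 := by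
  obtain ⟨n, hn⟩ : ∃ n, (triSet D (a * b * c)).ncard = n := ⟨_, rfl⟩
  have h := count_pairs (s := D) (t := {z | ∃ a b c, Tri D a b c ∧ a * b * c = z})
    (fun x z => ∃ y w, Tri D x y w ∧ x * y * w = z) (m := 62370) (n := n) (fun x hx => ?_) (fun z hz => ?_)
  · rw [ncard_eq S hF hM, triple_products_ncard S hF hM] at h
    omega
  · rw [← pair_products_ncard S hF hM hx,
      ← Set.ncard_image_of_injective {v | ∃ y w, Tri D x y w ∧ y * w = v} (mul_right_injective x)]
    congr 1
    ext z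
    constructor
    · rintro ⟨-, y, w, T', rfl⟩
      exact ⟨y * w, ⟨y, w, T', rfl⟩, (mul_assoc x y w).symm⟩
    · rintro ⟨-, ⟨y, w, T', rfl⟩, rfl⟩
      exact ⟨⟨x, y, w, T', mul_assoc x y w⟩, y, w, T', mul_assoc x y w⟩
  · obtain ⟨p, q, r, T', rfl⟩ := hz
    obtain ⟨g, e1, e2, e3⟩ := tri_conj S hF hM T T'
    have hprod : g * (a * b * c) * g⁻¹ = p * q * r := by rw [← e1, ← e2, ← e3]; group
    rw [← hn, ← Set.ncard_image_of_injective (triSet D (a * b * c)) (MulAut.conj g).injective]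
    congr 1
    ext x
    constructor
    · rintro ⟨hx, y, w, Tx, hp⟩
      refine ⟨g⁻¹ * x * g, ⟨by simpa using S.tt.conj g⁻¹ x hx, g⁻¹ * y * g, g⁻¹ * w * g,
        by simpa using tri_map S Tx g⁻¹, ?_⟩, show g * (g⁻¹ * x * g) * g⁻¹ = x by group⟩
      calc g⁻¹ * x * g * (g⁻¹ * y * g) * (g⁻¹ * w * g) = g⁻¹ * (x * y * w) * g := by group
        _ = a * b * c := by rw [hp, ← hprod]; group
    · rintro ⟨x, ⟨hx, y, w, Tx, hp⟩, rfl⟩
      refine ⟨S.tt.conj g x hx, _, _, tri_map S Tx g, ?_⟩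
      rw [← hprod, ← hp]
      simp only [MulAut.conj_apply]
      group

/-- An element of order three centralising a product of a triple and fixing none of the six members permutes
each triple cyclically. -/
theorem triSet_cycle {t z x : G} (hz : z ^ 3 = 1) (hzt : Commute z t) (hnf : ∀ e ∈ D, ¬ Commute z e)
    (hx : x ∈ triSet D t) : x * (z * x * z⁻¹) * (z * z * x * (z * z)⁻¹) = t := by
  obtain ⟨-, y, w, T, rfl⟩ := hx
  obtain ⟨p, q, r, -, -, hne, hall⟩ := exists_partner_triple S hF hM T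
  let A : Set G := {x, y, w}
  let B : Set G := {p, q, r}
  let img : G → Set G → Set G := fun g V => (fun v => g * v * g⁻¹) '' V
  have hAB : A ≠ B := fun h => hne fun v => by
    have := Set.ext_iff.1 h v
    simpa [A, B] using this
  have hcl : ∀ g, Commute g (x * y * w) → img g A = A ∨ img g A = B := by
    intro g hg
    have hprod : g * x * g⁻¹ * (g * y * g⁻¹) * (g * w * g⁻¹) = x * y * w := by
      calc g * x * g⁻¹ * (g * y * g⁻¹) * (g * w * g⁻¹) = g * (x * y * w) * g⁻¹ := by group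
        _ = x * y * w := by rw [hg.eq, mul_inv_cancel_right]
    have key : ∀ {d e f : G}, SameTri (g * x * g⁻¹) (g * y * g⁻¹) (g * w * g⁻¹) d e f →
        img g A = ({d, e, f} : Set G) := by
      intro d e f h
      ext v
      have hv := h v
      simp only [List.mem_cons, List.not_mem_nil, or_false] at hv
      simp only [img, A, Set.image_insert_eq, Set.image_singleton, Set.mem_insert_iff, Set.mem_singleton_iff]
      exact hv
    exact (hall _ _ _ (tri_map S T g) hprod).imp key key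
  have himg : ∀ g g' : G, img g (img g' A) = img (g * g') A := fun g g' => by
    simp only [img, Set.image_image]
    congr 1
    funext v
    group
  have hA : img z A = A := by
    rcases hcl z hzt with h | h
    · exact h
    exfalso
    have e3 : img z (img (z * z) A) = A := by
      rw [himg, show z * (z * z) = 1 by rw [← pow_two, ← pow_succ', hz]]
      simp [img]
    rcases hcl (z * z) (hzt.mul_left hzt) with h2 | h2
    · exact hAB (e3.symm.trans (by rw [h2, h]))
    · refine hAB (e3.symm.trans ?_)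
      rw [h2, ← h, himg]
      exact h2.trans h.symm
  have hA2 : img (z * z) A = A := by rw [← himg, hA, hA]
  have m1 : z * x * z⁻¹ ∈ A := hA ▸ ⟨x, by simp [A], rfl⟩
  have m2 : z * z * x * (z * z)⁻¹ ∈ A := hA2 ▸ ⟨x, by simp [A], rfl⟩
  have n1 : z * x * z⁻¹ ≠ x := fun e => hnf x T.ha (mul_inv_eq_iff_eq_mul.1 e)
  have n2 : z * z * x * (z * z)⁻¹ ≠ x := fun e => hnf x T.ha (by
    have h := (show Commute (z * z) x from mul_inv_eq_iff_eq_mul.1 e).mul_left
      (show Commute (z * z) x from mul_inv_eq_iff_eq_mul.1 e)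
    rwa [show z * z * (z * z) = z by rw [← mul_assoc, show z * z * z = 1 by rw [← pow_two, ← pow_succ, hz],
      one_mul]] at h)
  have n12 : z * z * x * (z * z)⁻¹ ≠ z * x * z⁻¹ := fun e => n1 (by
    have h := congrArg (fun v => z⁻¹ * v * z) e
    simpa [mul_assoc] using h)
  simp only [A, Set.mem_insert_iff, Set.mem_singleton_iff] at m1 m2
  rcases m1 with e | e | e
  · exact absurd e n1
  · rcases m2 with e' | e' | e'
    · exact absurd e' n2
    · exact absurd (e'.trans e.symm) n12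
    · rw [e, e']
  · rcases m2 with e' | e' | e'
    · exact absurd e' n2
    · rw [e, e', mul_assoc, ← T.cbc.eq, ← mul_assoc]
    · exact absurd (e'.trans e.symm) n12

/-- A small set of members attached to an involution. -/
theorem exists_small {t : G} (ht : orderOf t = 2) :
    ∃ V : Set G, V ⊆ D ∧ V.Nonempty ∧ V.ncard ≤ 6 ∧ ∀ g, Commute g t → ∀ x ∈ V, g * x * g⁻¹ ∈ V := by
  rcases invol_cases S hF hM ht with htD | ⟨a, b, ha, hb, rfl⟩ | ⟨a, b, c, T, rfl⟩
  · refine ⟨{t}, Set.singleton_subset_iff.2 htD, Set.singleton_nonempty t, by simp, fun g hg x hx => ?_⟩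
    rw [Set.mem_singleton_iff] at hx ⊢
    rw [hx, hg.eq, mul_inv_cancel_right]
  · refine ⟨{x | x ∈ D ∧ ∃ y ∈ link D x, x * y = a * b}, fun x hx => hx.1, ⟨a, ha, b, hb, rfl⟩, ?_, ?_⟩
    · refine le_trans (le_trans (Set.ncard_le_ncard (t := {a, b}) ?_ (Set.toFinite _)) (Set.ncard_insert_le _ _))
        (by simp)
      rintro x ⟨hx, y, hy, h⟩
      rcases pair_unique S hF hM hx hy.1 ha hb.1 hy.2.1.symm hb.2.1.symm hy.2.2 hb.2.2 h with ⟨e, -⟩ | ⟨e, -⟩
      · exact Or.inl e
      · exact Or.inr e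
    · rintro g hg x ⟨hx, y, hy, h⟩
      refine ⟨S.tt.conj g x hx, g * y * g⁻¹, link_conj S.tt g hy, ?_⟩
      calc g * x * g⁻¹ * (g * y * g⁻¹) = g * (x * y) * g⁻¹ := by group
        _ = a * b := by rw [h, hg.eq, mul_inv_cancel_right]
  · exact ⟨triSet D (a * b * c), fun x hx => hx.1, ⟨a, T.ha, b, c, T, rfl⟩, (triSet_ncard S hF hM T).le,
      fun g hg x hx => triSet_conj S hg hx⟩

/-- An involution commutes with more than thirty members. -/
theorem invol_many {t : G} (ht : orderOf t = 2) : 31 ≤ (fixSet D t).ncard := by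
  rcases invol_cases S hF hM ht with htD | ⟨a, b, ha, hb, rfl⟩ | ⟨a, b, c, T, rfl⟩
  · refine le_trans ?_ (Set.ncard_le_ncard (fun e he => ⟨he.1, he.2.2⟩ : link D t ⊆ fixSet D t) (Set.toFinite _))
    rw [link_ncard_eq S hF hM htD]; norm_num
  · refine le_trans ?_ (Set.ncard_le_ncard (fun e he => ⟨he.1.1, he.1.2.2.mul_left he.2.2.2⟩ :
      link D a ∩ link D b ⊆ fixSet D (a * b)) (Set.toFinite _))
    rw [link_two_ncard S hF hM ha hb]; norm_num
  · have lb := T.mem_link_b
    have lc := T.mem_link_c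
    set 𝒯 := {B | IsBase D B ∧ a ∈ B ∧ b ∈ B ∧ c ∈ B} with h𝒯
    have h3 : 𝒯.ncard = 3 := bases_three S hF hM T.ha lb ⟨lc, T.hc, T.bc.symm, T.cbc⟩
    obtain ⟨B, hB⟩ : 𝒯.Nonempty := Set.nonempty_of_ncard_ne_zero (by omega)
    obtain ⟨B', hB', hne⟩ : ∃ B' ∈ 𝒯, B' ≠ B := by
      by_contra! hall
      have := Set.ncard_le_ncard (show 𝒯 ⊆ {B} from fun X hX => hall X hX) (Set.toFinite _)
      rw [Set.ncard_singleton] at this
      omega
    obtain ⟨A⟩ := hM a T.ha
    obtain ⟨u, hu⟩ := A.exists_pt_of_link S hF T.ha lb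
    obtain ⟨v, hv⟩ := A.exists_pt_of_link S hF T.ha lc
    have h5 := A.line_count S hF T.ha lb lc hu hv T.cbc T.bc
    set L := {e | ∃ (le : e ∈ link D a) (w : Fin 6 → F), IsPt (A.img le) w ∧ w ∈ Submodule.span F {u, v}} with hL
    have hint : B ∩ B' ⊆ insert a L := by
      rintro e ⟨he, he'⟩
      by_contra hout
      have hea : e ≠ a := fun h => hout (Or.inl h)
      have le : e ∈ link D a := ⟨hB.1.sub he, hea, hB.1.comm a hB.2.1 e he⟩
      obtain ⟨w, hw⟩ := A.exists_pt_of_link S hF T.ha le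
      have hp : ∀ {f : G} (lf : f ∈ link D a) {x : Fin 6 → F}, IsPt (A.img lf) x → f ∈ B →
          Cfsg.hermForm 6 F 2 x w = 0 := fun lf _ hx hf =>
        (A.comm_iff S hF T.ha lf le hx hw).1 (hB.1.comm _ hf e he)
      have P : IsPlane u v w := ⟨hu.1.2, hv.1.2, hw.1.2, (A.comm_iff S hF T.ha lb lc hu hv).1 T.cbc,
        hp lb hu hB.2.2.1, hp lc hv hB.2.2.2, hu.1.1, A.notMem S hF T.ha lb lc hu hv T.bc,
        fun h => hout (Or.inr ⟨le, w, hw, h⟩)⟩
      exact hne ((A.base_eq S hF T.ha hB'.1 hB'.2.1 lb lc le hB'.2.2.1 hB'.2.2.2 he' hu hv hw P).trans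
        (A.base_eq S hF T.ha hB.1 hB.2.1 lb lc le hB.2.2.1 hB.2.2.2 he hu hv hw P).symm)
    have h6 : (B ∩ B').ncard ≤ 6 := by
      refine (Set.ncard_le_ncard hint (Set.toFinite _)).trans ((Set.ncard_insert_le _ _).trans ?_)
      omega
    have h38 : (B ∪ B').ncard + (B ∩ B').ncard = 44 := by
      rw [Set.ncard_union_add_ncard_inter, hB.1.card, hB'.1.card]
    have hsub : B ∪ B' ⊆ fixSet D (a * b * c) := by
      rintro e (he | he)
      · exact ⟨hB.1.sub he, ((hB.1.comm a hB.2.1 e he).mul_left (hB.1.comm b hB.2.2.1 e he)).mul_left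
          (hB.1.comm c hB.2.2.2 e he)⟩
      · exact ⟨hB'.1.sub he, ((hB'.1.comm a hB'.2.1 e he).mul_left (hB'.1.comm b hB'.2.2.1 e he)).mul_left
          (hB'.1.comm c hB'.2.2.2 e he)⟩
    have := Set.ncard_le_ncard hsub (Set.toFinite _)
    omega

end CfsgLib.M22Sylow
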