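import Cfsg.Agent.Lib.ThreeTransp.M22Sylow.Thirteen.Twins
import Cfsg.Agent.Lib.ThreeTransp.M22Sylow.Thirteen.Fixed3
import Cfsg.Agent.Lib.ThreeTransp.M22Sylow.Thirteen.Invols
import Cfsg.Agent.Lib.ThreeTransp.M22Sylow.Five
import Cfsg.Agent.Lib.ThreeTransp.M22Sylow.Seven
import Cfsg.Agent.Lib.ThreeTransp.M22Sylow.Eleven

/-!
# What commutes with an element of order thirteen

No non-trivial element commuting with an element of order thirteen fixes a member.
-/

set_option autoImplicit false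

namespace CfsgLib.M22Sylow

open CfsgLib.ThreeTransp CfsgLib.M22
open CfsgLib.PSUAut CfsgLib.U6

variable {G : Type*} [Group G] [Finite G] {D : Set G} (S : Setup D) {F : Type} [Field F] [Fintype F]
  (hF : Fintype.card F = 2 ^ 2) (hM : ∀ a ∈ D, Nonempty (Model D a F))
include S hF hM

variable {y : G} (hy : y ^ 13 = 1) (hy1 : y ≠ 1)
include hy hy1

theorem thirteen_moves {e : G} (he : e ∈ D) : ¬ Commute y e := fun hc => by
  haveI := Fact.mk (by norm_num : (13 : ℕ).Prime)
  have h := Subgroup.card_dvd_of_le (Subgroup.zpowers_le.2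
    (show y ∈ Subgroup.centralizer ({e} : Set G) from Subgroup.mem_centralizer_singleton_iff.2 hc.eq))
  rw [Nat.card_zpowers, orderOf_eq_prime hy hy1, card_centralizer S hF hM he] at h
  norm_num at h

theorem small_false (V : Set G) (hVD : V ⊆ D) (hne : V.Nonempty) (h13 : V.ncard < 13)
    (hinv : ∀ a ∈ V, y * a * y⁻¹ ∈ V) : False := by
  obtain ⟨a, ha⟩ := hne
  exact thirteen_moves S hF hM hy hy1 (hVD ha) (fixed_of_ncard_lt (by norm_num) hy V hinv h13 ha)

theorem no_involution {t : G} (ht : orderOf t = 2) : ¬ Commute y t := fun hc => by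
  obtain ⟨V, hVD, hne, h6, hinv⟩ := exists_small S hF hM ht
  exact small_false S hF hM hy hy1 V hVD hne (by omega) (hinv y hc)

theorem no_large_prime {p : ℕ} (hp : p = 5 ∨ p = 7 ∨ p = 11) {u : G} (hu : u ^ p = 1) (hu1 : u ≠ 1) :
    ¬ Commute y u := fun hc => by
  have hsub : fixSet D u ⊆ D := fun e he => he.1
  have hinv : ∀ a ∈ fixSet D u, y * a * y⁻¹ ∈ fixSet D u := fun a ha => fixSet_conj S hc.symm ha
  rcases hp with rfl | rfl | rfl
  · obtain ⟨d, hd⟩ := five_has_fixed S hF hM hu hu1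
    exact small_false S hF hM hy hy1 _ hsub ⟨d, hd⟩ (by rw [five_ten S hF hM hd hu hu1]; norm_num) hinv
  · obtain ⟨a, b, ha, -, -, -, h3⟩ := seven_fixSet S hF hM hu hu1
    exact small_false S hF hM hy hy1 _ hsub ⟨a, ha⟩ (by omega) hinv
  · obtain ⟨d, -, hd⟩ := eleven_fixSet S hF hM hu hu1
    exact small_false S hF hM hy hy1 _ hsub (hd ▸ Set.singleton_nonempty d) (by rw [hd]; simp) hinv

theorem not_product {z : G} (hz : z ^ 3 = 1) (hz1 : z ≠ 1) (hc : Commute y z) :
    ∀ e ∈ D, ∀ f ∈ D, e * f ≠ z := by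
  intro e he f hf hef
  let T : Set G := {d | d ∈ D ∧ d * z ∈ D}
  have hinvert : ∀ d ∈ T, d * z * d = z⁻¹ := fun d hd => by
    refine eq_inv_of_mul_eq_one_left ?_
    rw [mul_assoc]
    exact S.sqd hd.2
  have heT : e ∈ T := ⟨he, by rw [← hef, cancel₂ (S.sqd he)]; exact hf⟩
  have hpair : ∀ d ∈ T, ∀ d' ∈ T, d ≠ d' → ¬ Commute d d' := by
    intro d hd d' hd' hne hdd
    set g := d * z with hg
    have hzg : z = d * g := (cancel₂ (S.sqd hd.1) z).symm
    have hnc : ¬ Commute d g := fun h => hz1 (by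
      have h2 : z * z = 1 := by
        rw [hzg, h.symm.mul_mul_mul_comm, S.sqd hd.1, S.sqd hd.2, mul_one]
      rw [pow_succ, pow_two, h2, one_mul] at hz
      exact hz)
    have hzi : z⁻¹ = g * d := by
      rw [hzg, mul_inv_rev, S.tt.inv_eq hd.1, S.tt.inv_eq hd.2]
    have h1 : d' * g * d' = d * g * d := by
      have h := hinvert d' hd'
      rw [hzi, hzg] at h
      have h' : d * (d' * g * d') = g * d := by
        rw [← h, ← mul_assoc, ← mul_assoc, hdd.eq]
        simp [mul_assoc]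
      calc d' * g * d' = d * (d * (d' * g * d')) := (cancel₂ (S.sqd hd.1) _).symm
        _ = d * g * d := by rw [h', ← mul_assoc]
    have hnc' : ¬ Commute d' g := fun h => by
      rw [h.eq, mul_assoc, S.sqd hd'.1, mul_one] at h1
      exact S.tt.not_commute_cj_right hd.1 hd.2 hnc (by rw [← h1])
    rw [S.tt.braid hd'.1 hd.2 hnc', S.tt.braid hd.1 hd.2 hnc] at h1
    exact hne (mul_left_cancel (mul_right_cancel h1)).symm
  have hcl : ∀ d ∈ T, ∀ d' ∈ T, d * d' * d ∈ T := by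
    intro d hd d' hd'
    refine ⟨S.tt.cj_mem hd.1 hd'.1, ?_⟩
    have e1 : d * d' * d * z = d * (d' * (d' * z) * d') * d := by
      have h := hinvert d hd
      have h' := hinvert d' hd'
      have a1 : d * z = z⁻¹ * d := by rw [← h, mul_assoc (d * z), S.sqd hd.1, mul_one]
      have a2 : d' * z⁻¹ = z * d' := by rw [← h', ← mul_assoc, cancel₂ (S.sqd hd'.1)]
      calc d * d' * d * z = d * (d' * z⁻¹) * d := by rw [mul_assoc (d * d'), a1]; simp [mul_assoc]
        _ = d * (z * d') * d := by rw [a2]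
        _ = d * (d' * (d' * z) * d') * d := by rw [cancel₂ (S.sqd hd'.1)]
    rw [e1]
    exact S.tt.cj_mem hd.1 (S.tt.cj_mem hd'.1 hd'.2)
  have hyinv : ∀ d ∈ T, y * d * y⁻¹ ∈ T := fun d hd => by
    refine ⟨S.tt.conj y d hd.1, ?_⟩
    rw [show y * d * y⁻¹ * z = y * (d * z) * y⁻¹ by
      simp only [mul_assoc, (hc.inv_left).eq]]
    exact S.tt.conj y _ hd.2
  obtain ⟨a, ha, hya⟩ := w1_exists_fixed (S.tt.mono_w1 (fun d hd => hd.1) hpair hcl) ⟨e, heT⟩
    (by norm_num : (13 : ℕ).Prime) (by norm_num) hy hyinv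
  exact thirteen_moves S hF hM hy hy1 ha.1 hya

theorem no_three_fixed {z : G} (hz : z ^ 3 = 1) (hz1 : z ≠ 1) (hc : Commute y z) {d : G} (hd : d ∈ D) :
    ¬ Commute z d := fun hzd => by
  have hloc : ∀ a ∈ fixSet D z, _ := fun a ha =>
    three_local S hF hM ha hz hz1 (not_product S hF hM hy hy1 hz hz1 hc)
  have H : Multi D (fixSet D z) :=
    { tt := S.tt
      sub := fun e he => he.1
      closed := fun a ha b hb => by
        have := fixSet_conj S ha.2 hb
        rwa [S.tt.inv_eq ha.1] at this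
      trans := fun a ha b hb c hc' e he lb lc le => (hloc a ha).1 b c e lb lc le hb.2 hc'.2 he.2
      nbr := fun a ha => by
        obtain ⟨b, lb, hzb⟩ := (hloc a ha).2.1
        exact ⟨b, ⟨lb.1, hzb⟩, lb⟩
      tri := fun a ha b hb => by
        obtain ⟨c, ⟨l1, l2⟩, hzc⟩ := (hloc a ha).2.2.1 b hb.2 hb.1.2
        exact ⟨c, ⟨⟨l1.1, hzc⟩, l1⟩, ⟨l1.1, hzc⟩, l2⟩
      four := fun a ha f hf hmem => (hloc a ha).2.2.2 f hf fun i => ⟨(hmem i).2, (hmem i).1.2⟩ }
  obtain ⟨a, ha, hya⟩ := H.exists_fixed ⟨d, hd, hzd⟩ (by norm_num : (13 : ℕ).Prime) (by norm_num) hy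
    (Subgroup.mem_set_normalizer_iff.2 fun v => ⟨fun hv => fixSet_conj S hc.symm hv, fun hv => by
      have := fixSet_conj S hc.symm.inv_right hv
      simpa [mul_assoc] using this⟩)
  exact thirteen_moves S hF hM hy hy1 ha.1 hya

/-- No non-trivial element commuting with `y` fixes a member. -/
theorem no_fixed {g : G} (hg : g ≠ 1) (hc : Commute y g) {d : G} (hd : d ∈ D) : ¬ Commute g d := fun hgd => by
  obtain ⟨q, hq, hqd⟩ := Nat.exists_prime_and_dvd (show orderOf g ≠ 1 from fun h => hg (orderOf_eq_one_iff.1 h))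
  obtain ⟨m, hm⟩ := hqd
  have hw : orderOf (g ^ m) = q := by
    rw [orderOf_pow_of_dvd (fun h => by rw [h, mul_zero] at hm; exact (orderOf_pos g).ne' hm) ⟨q, by rw [hm, mul_comm]⟩,
      hm, Nat.mul_div_left _ (Nat.pos_of_ne_zero fun h => by rw [h, mul_zero] at hm; exact (orderOf_pos g).ne' hm)]
  have hwq : (g ^ m) ^ q = 1 := hw ▸ pow_orderOf_eq_one _
  have hw1 : g ^ m ≠ 1 := fun h => hq.ne_one (by rw [← hw, h, orderOf_one])
  have hwc : Commute y (g ^ m) := hc.pow_right m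
  have hdvd : q ∣ 2 ^ 17 * 3 ^ 9 * 5 ^ 2 * 7 * 11 * 13 := hw ▸ card_eq S hF hM ▸ orderOf_dvd_natCard _
  have hcases : q = 2 ∨ q = 3 ∨ q = 5 ∨ q = 7 ∨ q = 11 ∨ q = 13 := by
    have aux : ∀ {r : ℕ}, r.Prime → q ∣ r → q = r := fun hr h => (Nat.prime_dvd_prime_iff_eq hq hr).1 h
    rcases hq.dvd_mul.1 hdvd with h | h
    swap
    · exact by simp [aux (by norm_num) h]
    rcases hq.dvd_mul.1 h with h | h
    swap
    · exact by simp [aux (by norm_num) h]
    rcases hq.dvd_mul.1 h with h | h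
    swap
    · exact by simp [aux (by norm_num) h]
    rcases hq.dvd_mul.1 h with h | h
    swap
    · exact by simp [aux (by norm_num) (hq.dvd_of_dvd_pow h)]
    rcases hq.dvd_mul.1 h with h | h
    · exact by simp [aux (by norm_num) (hq.dvd_of_dvd_pow h)]
    · exact by simp [aux (by norm_num) (hq.dvd_of_dvd_pow h)]
  rcases hcases with rfl | rfl | h
  · exact no_involution S hF hM hy hy1 hw hwc
  · exact no_three_fixed S hF hM hy hy1 hwq hw1 hwc hd (hgd.pow_left m)
  rcases h with rfl | rfl | rfl | rfl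
  · exact no_large_prime S hF hM hy hy1 (Or.inl rfl) hwq hw1 hwc
  · exact no_large_prime S hF hM hy hy1 (Or.inr (Or.inl rfl)) hwq hw1 hwc
  · exact no_large_prime S hF hM hy hy1 (Or.inr (Or.inr rfl)) hwq hw1 hwc
  · exact thirteen_moves S hF hM hwq hw1 hd (hgd.pow_left m)

end CfsgLib.M22Sylow
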