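import Cfsg.Agent.Lib.ThreeTransp.M22Sylow.Local
import Cfsg.Agent.Lib.ThreeTransp.Width1

/-!
# General facts for the study of subgroups of order thirteen
-/

set_option autoImplicit false

namespace CfsgLib.M22Sylow

open CfsgLib.ThreeTransp

variable {G : Type*} [Group G] [Finite G]

/-- An element of prime order fixes every member of an invariant set of fewer elements. -/
theorem fixed_of_ncard_lt {p : ℕ} (hp : p.Prime) {y : G} (hy : y ^ p = 1) (V : Set G)
    (hV : ∀ a ∈ V, y * a * y⁻¹ ∈ V) (hlt : V.ncard < p) {a : G} (ha : a ∈ V) : Commute y a := by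
  have h := Loc.fix_modEq hp hy V hV
  have hle : {e | e ∈ V ∧ Commute y e}.ncard ≤ V.ncard := Set.ncard_le_ncard (fun e he => he.1) (Set.toFinite _)
  rw [Nat.ModEq, Nat.mod_eq_of_lt hlt, Nat.mod_eq_of_lt (lt_of_le_of_lt hle hlt)] at h
  have heq := Set.eq_of_subset_of_ncard_le (fun e he => he.1 : {e | e ∈ V ∧ Commute y e} ⊆ V) h.le (Set.toFinite _)
  exact ((Set.ext_iff.1 heq a).2 ha).2

/-- A braid-closed set of pairwise non-commuting involutions has a power of three members. -/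
theorem w1_ncard_three_pow {T : Set G} (hW : IsW1 T) (hne : T.Nonempty) : ∃ k, T.ncard = 3 ^ k := by
  obtain ⟨d, hd⟩ := hne
  set H := Subgroup.closure T with hH
  let T' : Set ↥H := {x | (x : G) ∈ T}
  have hW' : IsW1 T' := ⟨fun u hu => Subtype.ext (hW.sq _ hu), fun u hu v hv => Subtype.ext (hW.braid _ hu _ hv),
    fun u hu v hv => hW.closed _ hu _ hv⟩
  have hgen : Subgroup.closure T' = ⊤ := Subgroup.closure_closure_coe_preimage
  set O := (Cfsg.pCore 3 ↥H).map H.subtype with hO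
  have hconj : ∀ g ∈ H, ∀ s ∈ T, g * s * g⁻¹ ∈ T := by
    intro g hg
    refine Subgroup.closure_induction (p := fun g _ =>
      (∀ s ∈ T, g * s * g⁻¹ ∈ T) ∧ ∀ s ∈ T, g⁻¹ * s * g ∈ T) ?_ ?_ ?_ ?_ hg |>.1
    · intro x hx
      rw [inv_eq_self (hW.sq x hx)]
      exact ⟨fun s hs => hW.closed x hx s hs, fun s hs => hW.closed x hx s hs⟩
    · simp
    · intro x y _ _ hx hy
      refine ⟨fun s hs => ?_, fun s hs => ?_⟩
      · simpa [mul_assoc] using hx.1 _ (hy.1 s hs)
      · simpa [mul_assoc] using hy.2 _ (hx.2 s hs)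
    · intro x _ hx
      rw [inv_inv]
      exact ⟨hx.2, hx.1⟩
  have horb : Nat.card O = T.ncard * Nat.card ↥(O ⊓ Subgroup.centralizer ({d} : Set G)) := by
    refine Loc.card_eq_mul O d T ?_ ?_
    · rintro _ ⟨g, -, rfl⟩
      exact hconj _ g.2 d hd
    · intro e he
      refine ⟨d * e, ⟨⟨d, Subgroup.subset_closure hd⟩ * ⟨e, Subgroup.subset_closure he⟩,
        hW'.mul_mem_pCore hgen (show d ∈ T from hd) (show e ∈ T from he), rfl⟩, ?_⟩
      rw [mul_inv_rev, inv_eq_self (hW.sq d hd), inv_eq_self (hW.sq e he)]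
      calc d * e * d * (e * d) = (d * e * d) * e * d := by group
        _ = e * d * (e * e) * d := by rw [hW.braid d hd e he]; group
        _ = e := by rw [hW.sq e he, mul_one, mul_assoc, hW.sq d hd, mul_one]
  obtain ⟨j, hj⟩ : ∃ j, Nat.card O = 3 ^ j := by
    haveI := Fact.mk Nat.prime_three
    exact IsPGroup.iff_card.1 ((CfsgLib.Cores.isPGroup_pCore (G := ↥H) 3).map H.subtype)
  obtain ⟨k, -, hk⟩ := (Nat.dvd_prime_pow Nat.prime_three).1
    (show T.ncard ∣ 3 ^ j by rw [← hj, horb]; exact dvd_mul_right _ _)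
  exact ⟨k, hk⟩

/-- An element of prime order other than three stabilising such a set fixes one of its members. -/
theorem w1_exists_fixed {T : Set G} (hW : IsW1 T) (hne : T.Nonempty) {p : ℕ} (hp : p.Prime) (h3 : p ≠ 3) {y : G}
    (hy : y ^ p = 1) (hV : ∀ a ∈ T, y * a * y⁻¹ ∈ T) : ∃ a ∈ T, Commute y a := by
  by_contra! hno
  obtain ⟨k, hk⟩ := w1_ncard_three_pow hW hne
  have h := Loc.fix_modEq hp hy T hV
  rw [show {e | e ∈ T ∧ Commute y e} = ∅ from Set.eq_empty_iff_forall_notMem.2 fun e he => hno e he.1 he.2,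
    Set.ncard_empty, hk, Nat.modEq_zero_iff_dvd] at h
  exact h3 ((Nat.prime_dvd_prime_iff_eq hp Nat.prime_three).1 (hp.dvd_of_dvd_pow h))

/-- A subgroup of prime order that is a Sylow subgroup and central in its normaliser has a normal complement. -/
theorem exists_complement {p : ℕ} (hp : p.Prime) {R X : Subgroup G} (hX : X ≤ R) (hc : Nat.card X = p)
    (h2 : ¬ p ^ 2 ∣ Nat.card R)
    (hNC : R ⊓ Subgroup.normalizer (X : Set G) ≤ Subgroup.centralizer (X : Set G)) :
    ∃ K : Subgroup G, K ≤ R ∧ Nat.card R = p * Nat.card K ∧ ∀ g ∈ R, ∀ k ∈ K, g * k * g⁻¹ ∈ K := by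
  haveI := Fact.mk hp
  obtain ⟨P, hP⟩ := Loc.exists_sylow hp hX hc h2
  have hle : Subgroup.normalizer (P : Set R) ≤ Subgroup.centralizer (P : Set R) := by
    intro g hg
    rw [show (P : Set R) = ((P : Subgroup R) : Set R) from rfl, hP] at hg ⊢
    have hgN : (g : G) ∈ R ⊓ Subgroup.normalizer (X : Set G) := by
      refine Subgroup.mem_inf.2 ⟨g.2, Subgroup.mem_normalizer_iff.2 fun x => ⟨fun hx =>
        ((Subgroup.mem_normalizer_iff.1 hg) ⟨x, hX hx⟩).1 hx, fun hx => ?_⟩⟩
      have hxR : x ∈ R := by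
        have := mul_mem (mul_mem (inv_mem g.2) (hX hx)) g.2
        simpa [mul_assoc] using this
      exact ((Subgroup.mem_normalizer_iff.1 hg) ⟨x, hxR⟩).2 hx
    refine Subgroup.mem_centralizer_iff.2 fun z hz => Subtype.ext ?_
    exact Subgroup.mem_centralizer_iff.1 (hNC hgN) z hz
  have hcompl := MonoidHom.ker_transferSylow_isComplement' P hle
  set K := (MonoidHom.transferSylow P hle).ker with hK
  refine ⟨K.map R.subtype, Subgroup.map_subtype_le K, ?_, ?_⟩
  · rw [Subgroup.card_map_of_injective R.subtype_injective, ← hcompl.card_mul, hP,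
      Nat.card_congr (Subgroup.subgroupOfEquivOfLe hX).toEquiv, hc, mul_comm]
  · rintro g hg _ ⟨k, hk, rfl⟩
    refine ⟨(⟨g, hg⟩ : R) * k * (⟨g, hg⟩ : R)⁻¹, ?_, rfl⟩
    have hk1 : MonoidHom.transferSylow P hle k = 1 := MonoidHom.mem_ker.1 hk
    refine MonoidHom.mem_ker.2 ?_
    rw [map_mul, map_mul, map_inv, hk1, mul_one, mul_inv_cancel]

end CfsgLib.M22Sylow
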