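import Cfsg.Agent.Lib.ThreeTransp.M22Sylow.Thirteen.Exclude
import Cfsg.Agent.Lib.ThreeTransp.M22Sylow.Thirteen.Aux13

/-!
# The centraliser of an element of order thirteen and an inverting involution
-/

set_option autoImplicit false

namespace CfsgLib.M22Sylow

open CfsgLib.ThreeTransp CfsgLib.M22
open CfsgLib.PSUAut CfsgLib.U6

variable {G : Type*} [Group G] [Finite G] {D : Set G} (S : Setup D) {F : Type} [Field F] [Fintype F]
  (hF : Fintype.card F = 2 ^ 2) (hM : ∀ a ∈ D, Nonempty (Model D a F))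
include S hF hM

variable {y : G} (hy : y ^ 13 = 1) (hy1 : y ≠ 1)
include hy hy1

/-- The order of the centraliser. -/
theorem cent_dvd : Nat.card ↥(Subgroup.centralizer ({y} : Set G)) ∣ 351 := by
  set C := Subgroup.centralizer ({y} : Set G) with hC
  have hc : ∀ g ∈ C, Commute y g := fun g hg => (Subgroup.mem_centralizer_singleton_iff.1 hg).symm
  have h := Loc.card_dvd_of_free_conj C D (fun g _ x hx => S.tt.conj g x hx) fun g hg x hx hgx => by
    by_contra hne
    exact no_fixed S hF hM hy hy1 hne (hc g hg) hx hgx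
  rw [ncard_eq S hF hM] at h
  have hno : ∀ p : ℕ, p.Prime → (p = 2 ∨ p = 5) → ¬ p ∣ Nat.card C := by
    intro p hp hp' hdvd
    haveI := Fact.mk hp
    obtain ⟨⟨u, hu⟩, hu'⟩ := exists_prime_orderOf_dvd_card' (G := C) p hdvd
    rw [Subgroup.orderOf_mk] at hu'
    rcases hp' with rfl | rfl
    · exact no_involution S hF hM hy hy1 hu' (hc u hu)
    · exact no_large_prime S hF hM hy hy1 (Or.inl rfl) (hu' ▸ pow_orderOf_eq_one u)
        (fun e => by rw [e, orderOf_one] at hu'; norm_num at hu') (hc u hu)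
  have hcop : Nat.Coprime (Nat.card C) 10 := by
    rw [show (10 : ℕ) = 2 * 5 by norm_num]
    exact Nat.Coprime.mul_right ((Nat.prime_two.coprime_iff_not_dvd.2 (hno 2 Nat.prime_two (Or.inl rfl))).symm)
      (((by norm_num : (5 : ℕ).Prime).coprime_iff_not_dvd.2 (hno 5 (by norm_num) (Or.inr rfl))).symm)
  exact hcop.dvd_of_dvd_mul_left (show Nat.card C ∣ 10 * 351 from h)

/-- The orders of centraliser and normaliser. -/
theorem cent_norm_cases :
    (Nat.card ↥(Subgroup.centralizer ({y} : Set G)) = 13 ∧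
        Nat.card ↥(Subgroup.normalizer ((Subgroup.zpowers y : Subgroup G) : Set G)) = 78) ∨
      (Nat.card ↥(Subgroup.centralizer ({y} : Set G)) = 39 ∧
        Nat.card ↥(Subgroup.normalizer ((Subgroup.zpowers y : Subgroup G) : Set G)) = 78) ∨
      (Nat.card ↥(Subgroup.centralizer ({y} : Set G)) = 351 ∧
        Nat.card ↥(Subgroup.normalizer ((Subgroup.zpowers y : Subgroup G) : Set G)) = 2106) := by
  haveI := Fact.mk (by norm_num : (13 : ℕ).Prime)
  set X := Subgroup.zpowers y with hXdef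
  have hX : Nat.card X = 13 := by rw [hXdef, Nat.card_zpowers, orderOf_eq_prime hy hy1]
  obtain ⟨m, hm, hm1⟩ := Loc.sylow_count (by norm_num : (13 : ℕ).Prime) (le_top (a := X)) hX
    (by rw [Subgroup.card_top, card_eq S hF hM]; norm_num)
  obtain ⟨k, hk, hk12⟩ := Loc.normalizer_index (by norm_num : (13 : ℕ).Prime) (⊤ : Subgroup G) hX
  rw [top_inf_eq, top_inf_eq, hXdef, centralizer_zpowers, ← hXdef] at hk
  rw [top_inf_eq, Subgroup.card_top, card_eq S hF hM, hk] at hm
  have hC := cent_dvd S hF hM hy hy1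
  have h13 : 13 ∣ Nat.card ↥(Subgroup.centralizer ({y} : Set G)) := hX ▸ Subgroup.card_dvd_of_le
    (Subgroup.zpowers_le.2 (Subgroup.mem_centralizer_singleton_iff.2 rfl))
  generalize Nat.card ↥(Subgroup.centralizer ({y} : Set G)) = c at *
  rw [hk]
  have hc : c ∈ Nat.divisors 351 := Nat.mem_divisors.2 ⟨hC, by norm_num⟩
  have hk' : k ∈ Nat.divisors (13 - 1) := Nat.mem_divisors.2 ⟨hk12, by norm_num⟩
  rw [show Nat.divisors 351 = {1, 3, 9, 13, 27, 39, 117, 351} from by decide +kernel] at hc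
  rw [show Nat.divisors (13 - 1) = {1, 2, 3, 4, 6, 12} from by decide +kernel] at hk'
  simp only [Finset.mem_insert, Finset.mem_singleton] at hc hk'
  unfold Nat.ModEq at hm1
  rcases hc with rfl | rfl | rfl | rfl | rfl | rfl | rfl | rfl <;> (try norm_num at h13) <;>
    rcases hk' with rfl | rfl | rfl | rfl | rfl | rfl <;> omega

/-- An involution inverting `y`. -/
theorem exists_inverter :
    ∃ t, orderOf t = 2 ∧ t ∈ Subgroup.normalizer ((Subgroup.zpowers y : Subgroup G) : Set G) ∧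
      t * y * t⁻¹ = y⁻¹ := by
  set N := Subgroup.normalizer ((Subgroup.zpowers y : Subgroup G) : Set G) with hN
  have h2 : 2 ∣ Nat.card N := by
    rcases cent_norm_cases S hF hM hy hy1 with ⟨-, h⟩ | ⟨-, h⟩ | ⟨-, h⟩ <;> rw [hN, h] <;> norm_num
  haveI := Fact.mk Nat.prime_two
  obtain ⟨⟨t, ht⟩, ht2⟩ := exists_prime_orderOf_dvd_card' (G := N) 2 h2
  rw [Subgroup.orderOf_mk] at ht2
  refine ⟨t, ht2, ht, ?_⟩
  have htt : t * t = 1 := by rw [← pow_two, ← ht2, pow_orderOf_eq_one]
  rcases Loc.pm_of_sq (by norm_num : (13 : ℕ).Prime) hy hy1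
    ((Subgroup.mem_normalizer_iff.1 ht y).1 (Subgroup.mem_zpowers y)) (by rw [htt]; exact Commute.one_right y) with h | h
  · exact absurd (show Commute y t from (mul_inv_eq_iff_eq_mul.1 h).symm) (no_involution S hF hM hy hy1 ht2)
  · exact h

end CfsgLib.M22Sylow
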