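import Cfsg.Agent.Lib.ThreeTransp.M22Sylow.Thirteen.Case39
import Cfsg.Agent.Lib.ThreeTransp.M22Sylow.Thirteen.Case351

/-!
# Groups of type `M(22)`: subgroups of order thirteen
-/

set_option autoImplicit false

namespace CfsgLib.M22Sylow

open CfsgLib.ThreeTransp CfsgLib.M22
open CfsgLib.PSUAut CfsgLib.U6

variable {G : Type*} [Group G] [Finite G] {D : Set G} (S : Setup D) {F : Type} [Field F] [Fintype F]
  (hF : Fintype.card F = 2 ^ 2) (hM : ∀ a ∈ D, Nonempty (Model D a F))
include S hF hM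

/-- Subgroups of order thirteen: self-centralising, with normaliser of order `78`. -/
theorem thirteen_normalizer {X : Subgroup G} (hX : Nat.card X = 13) :
    Nat.card ↥(Subgroup.normalizer ((X : Subgroup G) : Set G)) = 78 ∧
      Subgroup.centralizer ((X : Subgroup G) : Set G) = X := by
  obtain ⟨y, rfl, hy, hy1⟩ := Loc.exists_gen (by norm_num : (13 : ℕ).Prime) hX
  have h39 : Nat.card ↥(Subgroup.centralizer ({y} : Set G)) ≠ 39 := by
    intro h
    haveI := Fact.mk Nat.prime_three
    obtain ⟨⟨z, hz⟩, hz3⟩ := exists_prime_orderOf_dvd_card' (G := Subgroup.centralizer ({y} : Set G)) 3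
      (by rw [h]; norm_num)
    rw [Subgroup.orderOf_mk] at hz3
    exact cent_ne_39 S hF hM hy hy1 (hz3 ▸ pow_orderOf_eq_one z)
      (fun e => by rw [e, orderOf_one] at hz3; norm_num at hz3)
      (Subgroup.mem_centralizer_singleton_iff.1 hz).symm h
  rcases cent_norm_cases S hF hM hy hy1 with ⟨hC, hN⟩ | ⟨hC, -⟩ | ⟨hC, -⟩
  · refine ⟨hN, ?_⟩
    rw [centralizer_zpowers]
    exact (Subgroup.eq_of_le_of_card_ge (Subgroup.zpowers_le.2 (Subgroup.mem_centralizer_singleton_iff.2 rfl))
      (by rw [hC, hX])).symm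
  · exact absurd hC h39
  · exact absurd hC (cent_ne_351 S hF hM hy hy1)

/-- Subgroups of order thirteen are conjugate. -/
theorem thirteen_conj {X Y : Subgroup G} (hX : Nat.card X = 13) (hY : Nat.card Y = 13) :
    ∃ g : G, X.map (MulAut.conj g).toMonoidHom = Y := by
  obtain ⟨g, -, hg⟩ := Loc.conj_of_card (by norm_num : (13 : ℕ).Prime) (le_top (a := X)) (le_top (a := Y)) hX hY
    (by rw [Subgroup.card_top, card_eq S hF hM]; norm_num)
  exact ⟨g, hg⟩

end CfsgLib.M22Sylow
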