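import Cfsg.Agent.Lib.ThreeTransp.M22Sylow.Thirteen.Gen
import Cfsg.Agent.Lib.ThreeTransp.Classes

/-!
# An element of prime order above four acting on a set of members with multipartite components

Let every member of a closed set `T` of 3-transpositions have a neighbour in `T`, every edge lie in a triangle,
non-commutation be transitive among the neighbours of each member, and no five members commute pairwise.
Then the components are braided and an element of prime order `p > 4` stabilising `T` fixes one of its members.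
-/

set_option autoImplicit false

namespace CfsgLib.M22Sylow

open CfsgLib.ThreeTransp

variable {G : Type*} [Group G] [Finite G] {D T : Set G}

/-- The neighbours in `T`. -/
def tnbr (D T : Set G) (a : G) : Set G := {d | d ∈ T ∧ d ∈ link D a}

/-- The component relation. -/
def trel (D T : Set G) (a b : G) : Prop := a = b ∨ b ∈ link D a ∨ tnbr D T a = tnbr D T b

/-- The hypotheses on the set. -/
structure Multi (D T : Set G) : Prop where
  tt : IsTT D
  sub : T ⊆ D
  closed : ∀ a ∈ T, ∀ b ∈ T, a * b * a ∈ T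
  trans : ∀ a ∈ T, ∀ b ∈ T, ∀ c ∈ T, ∀ e ∈ T, b ∈ link D a → c ∈ link D a → e ∈ link D a →
    ¬ Commute b c → ¬ Commute c e → b ≠ e → ¬ Commute b e
  nbr : ∀ a ∈ T, (tnbr D T a).Nonempty
  tri : ∀ a ∈ T, ∀ b ∈ tnbr D T a, ∃ c, c ∈ tnbr D T a ∧ c ∈ tnbr D T b
  four : ∀ a ∈ T, ∀ f : Fin 4 → G, Function.Injective f → (∀ i, f i ∈ tnbr D T a) →
    ∃ i j, ¬ Commute (f i) (f j)

variable (H : Multi D T)
include H

omit [Finite G] in
theorem Multi.adj_symm {a b : G} (ha : a ∈ T) (hb : b ∈ link D a) : a ∈ link D b :=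
  ⟨H.sub ha, hb.2.1.symm, hb.2.2.symm⟩

omit [Finite G] in
theorem Multi.adj_of {a b : G} (hb : b ∈ T) (hne : a ≠ b) (hc : Commute a b) : b ∈ link D a :=
  ⟨H.sub hb, hne.symm, hc⟩

omit [Finite G] in
theorem Multi.nbr_sub {a b c : G} (ha : a ∈ T) (hb : b ∈ T) (hc : c ∈ T) (hab : b ∈ link D a)
    (hbc : c ∈ link D b) (hac : a ≠ c) (hnc : ¬ Commute a c) : tnbr D T a ⊆ tnbr D T c := by
  rintro d ⟨hd, had⟩
  have hdc : d ≠ c := fun e => hnc (e ▸ had.2.2)
  refine ⟨hd, H.adj_of hd hdc.symm ?_⟩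
  by_contra hcd
  by_cases hdb : Commute d b
  · by_cases heq : d = b
    · exact hcd (heq ▸ hbc.2.2.symm)
    exact H.trans b hb a ha c hc d hd (H.adj_symm ha hab) hbc (H.adj_of hd (Ne.symm heq) hdb.symm) hnc hcd
      had.2.1.symm had.2.2
  obtain ⟨e, hea, heb⟩ := H.tri a ha b ⟨hb, hab⟩
  have hed : Commute e d := by
    by_contra hn
    exact H.trans a ha b hb d hd e hea.1 hab had hea.2 (fun h => hdb h.symm) (fun h => hn h.symm)
      heb.2.2.1.symm heb.2.2.2
  have hde : d ≠ e := fun h => hdb (h ▸ heb.2.2.2.symm)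
  have hce : c ≠ e := fun h => hnc (h ▸ hea.2.2.2)
  have hec : Commute e c := by
    by_contra hn
    exact H.trans b hb a ha c hc e hea.1 (H.adj_symm ha hab) hbc heb.2 hnc (fun h => hn h.symm)
      hea.2.2.1.symm hea.2.2.2
  exact H.trans e hea.1 a ha c hc d hd (H.adj_symm ha hea.2) (H.adj_of hc hce.symm hec)
    (H.adj_of hd hde.symm hed) hnc hcd had.2.1.symm had.2.2

omit [Finite G] in
theorem Multi.twin {a b c : G} (ha : a ∈ T) (hb : b ∈ T) (hc : c ∈ T) (hab : b ∈ link D a) (hbc : c ∈ link D b)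
    (hac : a ≠ c) (hnc : ¬ Commute a c) : tnbr D T a = tnbr D T c :=
  Set.Subset.antisymm (H.nbr_sub ha hb hc hab hbc hac hnc)
    (H.nbr_sub hc hb ha (H.adj_symm hb hbc) (H.adj_symm ha hab) hac.symm fun h => hnc h.symm)

omit [Finite G] in
theorem Multi.not_adj_twin {a b : G} (hb : b ∈ T) (h : tnbr D T a = tnbr D T b) : b ∉ link D a := fun hab => by
  have h1 : b ∈ tnbr D T b := h ▸ (show b ∈ tnbr D T a from ⟨hb, hab⟩)
  exact h1.2.2.1 rfl

omit [Finite G] in
theorem Multi.rel_symm {a b : G} (ha : a ∈ T) (h : trel D T a b) : trel D T b a := by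
  rcases h with h | h | h
  · exact Or.inl h.symm
  · exact Or.inr (Or.inl (H.adj_symm ha h))
  · exact Or.inr (Or.inr h.symm)

omit [Finite G] in
theorem Multi.rel_trans {a b c : G} (ha : a ∈ T) (hb : b ∈ T) (hc : c ∈ T) (h : trel D T a b)
    (h' : trel D T b c) : trel D T a c := by
  rcases h with rfl | h | h
  · exact h'
  · rcases h' with rfl | h' | h'
    · exact Or.inr (Or.inl h)
    · by_cases hac : a = c
      · exact Or.inl hac
      by_cases hcom : Commute a c
      · exact Or.inr (Or.inl (H.adj_of hc hac hcom))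
      · exact Or.inr (Or.inr (H.twin ha hb hc h h' hac hcom))
    · have h1 : a ∈ tnbr D T c := h' ▸ (show a ∈ tnbr D T b from ⟨ha, H.adj_symm ha h⟩)
      exact Or.inr (Or.inl (H.adj_symm hc h1.2))
  · rcases h' with rfl | h' | h'
    · exact Or.inr (Or.inr h)
    · have h1 : c ∈ tnbr D T a := h.symm ▸ (show c ∈ tnbr D T b from ⟨hc, h'⟩)
      exact Or.inr (Or.inl h1.2)
    · exact Or.inr (Or.inr (h.trans h'))

omit [Finite G] in
theorem Multi.adj_conj {g a b : G} (h : b ∈ link D a) : g * b * g⁻¹ ∈ link D (g * a * g⁻¹) :=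
  ⟨H.tt.conj g b h.1, fun e => h.2.1 (mul_left_cancel (mul_right_cancel e)), (Commute.conj_iff g).2 h.2.2⟩

omit [Finite G] in
theorem Multi.nbr_conj {g : G} (hg : g ∈ Subgroup.normalizer T) (a : G) :
    tnbr D T (g * a * g⁻¹) = (fun v => g * v * g⁻¹) '' tnbr D T a := by
  ext v
  constructor
  · rintro ⟨hv, hav⟩
    refine ⟨g⁻¹ * v * g, ⟨(Subgroup.mem_set_normalizer_iff''.1 hg v).1 hv, ?_⟩, by group⟩
    have := H.adj_conj (g := g⁻¹) hav
    simpa [mul_assoc] using this
  · rintro ⟨u, ⟨hu, hau⟩, rfl⟩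
    exact ⟨(Subgroup.mem_set_normalizer_iff.1 hg u).1 hu, H.adj_conj hau⟩

omit [Finite G] in
theorem Multi.rel_conj {g a b : G} (hg : g ∈ Subgroup.normalizer T) (h : trel D T a b) :
    trel D T (g * a * g⁻¹) (g * b * g⁻¹) := by
  rcases h with rfl | h | h
  · exact Or.inl rfl
  · exact Or.inr (Or.inl (H.adj_conj h))
  · exact Or.inr (Or.inr (by rw [H.nbr_conj hg, H.nbr_conj hg, h]))

omit [Finite G] in
theorem Multi.mem_normalizer {d : G} (hd : d ∈ T) : d ∈ Subgroup.normalizer T := by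
  have hi : d⁻¹ = d := H.tt.inv_eq (H.sub hd)
  have h2 : d * d = 1 := H.tt.sq d (H.sub hd)
  refine Subgroup.mem_set_normalizer_iff.2 fun v => ⟨fun hv => by rw [hi]; exact H.closed d hd v hv, fun hv => ?_⟩
  have := H.closed d hd _ hv
  rwa [hi, show d * (d * v * d) * d = v by simp [mul_assoc, cancel₂ h2, h2]] at this

omit [Finite G] in
theorem Multi.cj_rel {d e x : G} (hd : d ∈ T) (he : e ∈ T) (hx : x ∈ T) (h : e ∈ link D d) :
    trel D T (d * x * d) (e * x * e) := by
  have cjc : ∀ {u : G}, u ∈ T → Commute x u → u * x * u = x := fun {u} hu hc => by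
    rw [← hc.eq, mul_assoc, H.tt.sq u (H.sub hu), mul_one]
  have aux : ∀ {d e : G}, d ∈ T → e ∈ T → e ∈ link D d → Commute x d → trel D T x (e * x * e) := by
    intro d e hd he h hc
    have h1 : trel D T x d := by
      by_cases hxd : x = d
      · exact Or.inl hxd
      · exact Or.inr (Or.inl (H.adj_of hd hxd hc))
    have h2 : trel D T x e := H.rel_trans hx hd he h1 (Or.inr (Or.inl h))
    have h3 := H.rel_conj (H.mem_normalizer he) h2
    rw [H.tt.inv_eq (H.sub he), H.tt.sq e (H.sub he), one_mul] at h3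
    exact H.rel_trans hx he (H.closed e he x hx) h2 (H.rel_symm (H.closed e he x hx) h3)
  by_cases hcd : Commute x d
  · rw [cjc hd hcd]; exact aux hd he h hcd
  by_cases hce : Commute x e
  · rw [cjc he hce]; exact H.rel_symm hx (aux he hd (H.adj_symm hd h) hce)
  · rw [← H.tt.braid (H.sub hx) (H.sub hd) hcd, ← H.tt.braid (H.sub hx) (H.sub he) hce]
    have h1 := H.adj_conj (g := x) h
    rw [H.tt.inv_eq (H.sub hx)] at h1
    exact Or.inr (Or.inl h1)

theorem Multi.exists_fixed (hne : T.Nonempty) {p : ℕ} (hp : p.Prime) (h4 : 4 < p) {y : G} (hy : y ^ p = 1)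
    (hyT : y ∈ Subgroup.normalizer T) : ∃ a ∈ T, Commute y a := by
  classical
  letI sT : Setoid ↥T := ⟨fun a b => trel D T a.1 b.1,
    fun a => Or.inl rfl, fun {a b} h => H.rel_symm a.2 h, fun {a b c} h h' => H.rel_trans a.2 b.2 c.2 h h'⟩
  let Ω := Quotient sT
  have hmem : ∀ (g : ↥(Subgroup.normalizer T)) (a : ↥T), (g : G) * a * (g : G)⁻¹ ∈ T := fun g a =>
    (Subgroup.mem_set_normalizer_iff.1 g.2 a.1).1 a.2
  let f : ↥(Subgroup.normalizer T) → Ω → Ω := fun g => Quotient.map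
    (fun a => (⟨(g : G) * a * (g : G)⁻¹, hmem g a⟩ : ↥T)) fun _ _ h => H.rel_conj g.2 h
  have hf1 : ∀ q, f 1 q = q := fun q => Quotient.inductionOn q fun a =>
    congrArg Quotient.mk'' (Subtype.ext (show (1 : G) * a.1 * (1 : G)⁻¹ = a.1 by group))
  have hfm : ∀ g g' q, f (g * g') q = f g (f g' q) := fun g g' q => Quotient.inductionOn q fun a =>
    congrArg Quotient.mk'' (Subtype.ext (show (g : G) * g' * a.1 * ((g : G) * g')⁻¹ =
      (g : G) * (g' * a.1 * (g' : G)⁻¹) * (g : G)⁻¹ by group))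
  letI act : MulAction ↥(Subgroup.normalizer T) Ω :=
    { smul := f
      one_smul := hf1
      mul_smul := hfm }
  let π : ↥(Subgroup.normalizer T) →* Equiv.Perm Ω := MulAction.toPermHom _ Ω
  let nm : ∀ {d : G}, d ∈ T → ↥(Subgroup.normalizer T) := fun {d} hd => ⟨d, H.mem_normalizer hd⟩
  have hπ : ∀ (g : ↥(Subgroup.normalizer T)) (a : ↥T),
      π g (Quotient.mk sT a) = Quotient.mk sT ⟨(g : G) * a * (g : G)⁻¹, hmem g a⟩ := fun _ _ => rfl
  have hπrel : ∀ {d e : G} (hd : d ∈ T) (he : e ∈ T), trel D T d e → π (nm hd) = π (nm he) := by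
    have hadj : ∀ {d e : G} (hd : d ∈ T) (he : e ∈ T), e ∈ link D d → π (nm hd) = π (nm he) := fun {d e} hd he h =>
      Equiv.ext fun q => Quotient.inductionOn q fun a => by
        rw [hπ, hπ]
        refine Quotient.sound ?_
        show trel D T (d * a.1 * d⁻¹) (e * a.1 * e⁻¹)
        rw [H.tt.inv_eq (H.sub hd), H.tt.inv_eq (H.sub he)]
        exact H.cj_rel hd he a.2 h
    intro d e hd he h
    rcases h with rfl | h | h
    · rfl
    · exact hadj hd he h
    · obtain ⟨b, hb⟩ := H.nbr d hd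
      have hb' : b ∈ tnbr D T e := h ▸ hb
      exact (hadj hd hb.1 hb.2).trans (hadj hb.1 he (H.adj_symm he hb'.2))
  let W : Set (Equiv.Perm Ω) := {σ | ∃ (d : G) (hd : d ∈ T), π (nm hd) = σ}
  have hW : IsW1 W := by
    refine ⟨?_, ?_, ?_⟩
    · rintro _ ⟨d, hd, rfl⟩
      rw [← map_mul, show nm hd * nm hd = 1 from Subtype.ext (H.tt.sq d (H.sub hd)), map_one]
    · rintro _ ⟨d, hd, rfl⟩ _ ⟨e, he, rfl⟩
      by_cases hc : Commute d e
      · have hr : trel D T d e := by
          by_cases heq : d = e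
          · exact Or.inl heq
          · exact Or.inr (Or.inl (H.adj_of he heq hc))
        rw [hπrel hd he hr]
      · rw [← map_mul, ← map_mul, ← map_mul, ← map_mul]
        exact congrArg π (Subtype.ext (H.tt.braid (H.sub hd) (H.sub he) hc))
    · rintro _ ⟨d, hd, rfl⟩ _ ⟨e, he, rfl⟩
      refine ⟨_, H.closed d hd e he, ?_⟩
      rw [← map_mul, ← map_mul]
      exact congrArg π (Subtype.ext rfl)
  obtain ⟨a₀, ha₀⟩ := hne
  have hρ : π ⟨y, hyT⟩ ^ p = 1 := by
    rw [← map_pow, show (⟨y, hyT⟩ : ↥(Subgroup.normalizer T)) ^ p = 1 from Subtype.ext hy, map_one]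
  have hconj : ∀ {d : G} (hd : d ∈ T) (hd' : y * d * y⁻¹ ∈ T),
      π ⟨y, hyT⟩ * π (nm hd) * (π ⟨y, hyT⟩)⁻¹ = π (nm hd') := fun hd hd' => by
    rw [← map_inv, ← map_mul, ← map_mul]
    exact congrArg π (Subtype.ext rfl)
  obtain ⟨_, ⟨d, hd, rfl⟩, hcom⟩ := w1_exists_fixed hW ⟨_, a₀, ha₀, rfl⟩ hp (by omega) hρ (by
    rintro _ ⟨d, hd, rfl⟩
    have hd' : y * d * y⁻¹ ∈ T := (Subgroup.mem_set_normalizer_iff.1 hyT d).1 hd
    exact ⟨_, hd', (hconj hd hd').symm⟩)
  have hd' : y * d * y⁻¹ ∈ T := (Subgroup.mem_set_normalizer_iff.1 hyT d).1 hd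
  have heq : π (nm hd') = π (nm hd) := by
    rw [← hconj hd hd', hcom.eq, mul_inv_cancel_right]
  -- `y` fixes the component of `d`
  have hrel : trel D T d (y * d * y⁻¹) := by
    have h := congrArg (fun σ => σ (Quotient.mk sT (⟨y * d * y⁻¹, hd'⟩ : ↥T))) heq
    simp only [hπ] at h
    have h' : trel D T (y * d * y⁻¹ * (y * d * y⁻¹) * (y * d * y⁻¹)⁻¹) (d * (y * d * y⁻¹) * d⁻¹) :=
      Quotient.exact h
    rw [mul_inv_cancel_right, H.tt.inv_eq (H.sub hd)] at h'
    set e := y * d * y⁻¹ with he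
    by_cases hc : Commute d e
    · by_cases hde : d = e
      · exact Or.inl hde
      · exact Or.inr (Or.inl (H.adj_of hd' hde hc))
    have h2 := H.rel_conj (H.mem_normalizer hd') h'
    rw [H.tt.inv_eq (H.sub hd'), H.tt.braid (H.sub hd) (H.sub hd') hc] at h2
    have e1 : e * e = 1 := H.tt.sq e (H.sub hd')
    rw [e1, one_mul, show e * (e * d * e) * e = d by simp [mul_assoc, cancel₂ e1, e1]] at h2
    exact H.rel_symm hd' h2
  let K : Set G := {x | x ∈ T ∧ trel D T d x}
  have hK : ∀ x ∈ K, y * x * y⁻¹ ∈ K := fun x hx =>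
    ⟨(Subgroup.mem_set_normalizer_iff.1 hyT x).1 hx.1,
      H.rel_trans hd hd' ((Subgroup.mem_set_normalizer_iff.1 hyT x).1 hx.1) hrel (H.rel_conj hyT hx.2)⟩
  let V : Set (Set G) := tnbr D T '' K
  have hV4 : V.ncard ≤ 4 := by
    by_contra hgt
    obtain ⟨V', hV', hc5⟩ := Set.exists_subset_card_eq (show 5 ≤ V.ncard by omega)
    have e5 : Nonempty (Fin 5 ≃ ↥V') := ⟨(Finite.equivFinOfCardEq (by rw [Nat.card_coe_set_eq, hc5])).symm⟩
    obtain ⟨e5⟩ := e5
    choose x hx hxN using fun i : Fin 5 => hV' (e5 i).2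
    have hinj : ∀ i j, i ≠ j → x j ∈ link D (x i) := by
      intro i j hij
      rcases H.rel_trans (hx i).1 hd (hx j).1 (H.rel_symm hd (hx i).2) (hx j).2 with h | h | h
      · exact absurd (e5.injective (Subtype.ext (by rw [← hxN i, ← hxN j, h]))) hij
      · exact h
      · exact absurd (e5.injective (Subtype.ext (by rw [← hxN i, ← hxN j, h]))) hij
    obtain ⟨i, j, hn⟩ := H.four (x 0) (hx 0).1 (fun i : Fin 4 => x i.succ) (fun i j hij => by
      by_contra hne
      exact (hinj _ _ (fun e => hne (Fin.succ_injective 4 e))).2.1 hij.symm) fun i =>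
        ⟨(hx _).1, hinj 0 i.succ (Fin.succ_ne_zero i).symm⟩
    by_cases hij : i = j
    · exact hn (hij ▸ Commute.refl _)
    · exact hn (hinj _ _ (fun e => hij (Fin.succ_injective 4 e))).2.2
  let Φ : Set G → Set G := fun U => (fun v => y * v * y⁻¹) '' U
  have hΦ : ∀ n : ℕ, ∀ U, Φ^[n] U = (fun v => y ^ n * v * (y ^ n)⁻¹) '' U := by
    intro n
    induction n with
    | zero => intro U; simp
    | succ n ih =>
      intro U
      rw [Function.iterate_succ_apply', ih]
      simp only [Φ, Set.image_image]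
      congr 1
      funext v
      rw [pow_succ']; group
  have hfix : Φ (tnbr D T d) = tnbr D T d := by
    have hper : Function.IsPeriodicPt Φ p (tnbr D T d) := by
      show Φ^[p] _ = _
      rw [hΦ, hy]; simp
    rcases (Nat.dvd_prime hp).1 hper.minimalPeriod_dvd with h1 | h1
    · exact Function.minimalPeriod_eq_one_iff_isFixedPt.1 h1
    · exfalso
      have hinj := Function.iterate_injOn_Iio_minimalPeriod (f := Φ) (x := tnbr D T d)
      rw [h1] at hinj
      have hle := Set.ncard_le_ncard_of_injOn (fun n => Φ^[n] (tnbr D T d)) (s := Set.Iio p) (t := V) (fun n hn => by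
        clear hn
        induction n with
        | zero => exact ⟨d, ⟨hd, Or.inl rfl⟩, rfl⟩
        | succ n ih =>
          obtain ⟨x, hx, hxe⟩ := ih
          refine ⟨y * x * y⁻¹, hK x hx, ?_⟩
          rw [H.nbr_conj hyT, hxe, Function.iterate_succ_apply']) hinj (Set.toFinite _)
      rw [← Finset.coe_Iio, Set.ncard_coe_finset, Nat.card_Iio] at hle
      omega
  let P : Set G := {x | x ∈ T ∧ tnbr D T x = tnbr D T d}
  have hcj : ∀ x ∈ P, ∀ x' ∈ P, x * x' * x ∈ P := fun x hx x' hx' => ⟨H.closed x hx.1 x' hx'.1, by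
    have hxx : x * x * x = x := by rw [H.tt.sq x (H.sub hx.1), one_mul]
    have h1 := H.nbr_conj (H.mem_normalizer hx.1) x'
    have h2 := H.nbr_conj (H.mem_normalizer hx.1) x
    rw [hx'.2] at h1
    rw [hx.2] at h2
    rw [H.tt.inv_eq (H.sub hx.1)] at h1 h2
    rw [hxx, hx.2] at h2
    exact h1.trans h2.symm⟩
  obtain ⟨a, ha, hya⟩ := w1_exists_fixed (T := P) (H.tt.mono_w1 (fun x hx => H.sub hx.1)
      (fun a ha b hb hne hc => H.not_adj_twin hb.1 (ha.2.trans hb.2.symm) (H.adj_of hb.1 hne hc)) hcj)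
    ⟨d, hd, rfl⟩ hp (by omega) hy fun a ha => ⟨(Subgroup.mem_set_normalizer_iff.1 hyT a).1 ha.1, by
      rw [H.nbr_conj hyT, ha.2]; exact hfix⟩
  exact ⟨a, ha.1, hya⟩

end CfsgLib.M22Sylow
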